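import Groth.Agent.Sga3.H779.SchemeThm
import Groth.Agent.S3022
import Groth.Prelude.Def_SGA3x

/-!
# Smoothness of a group scheme along the unit section over a reduced base
-/

set_option autoImplicit false

open CategoryTheory MonoidalCategory CartesianMonoidalCategory MonObj GrpObj AlgebraicGeometry Limits

namespace Groth.Agent.Sga3.H779.GrpSmooth

universe u

/-- Over a reduced base, a group scheme locally of finite presentation with smooth fibres of locally constant dimension
is smooth at the points of the unit section. -/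
theorem exists_smooth_nhd_unit (S : Scheme.{u}) [IsReduced S] (G : Over S) [GrpObj G]
    [LocallyOfFinitePresentation G.hom]
    (hfib : ∀ s : S, Smooth (pullback.snd G.hom (S.fromSpecResidueField s)))
    (hdim : IsLocallyConstant (fun s : S => topologicalKrullDim ↥(G.hom.base ⁻¹' {s}))) :
    ∃ U : G.left.Opens, Smooth (U.ι ≫ G.hom) ∧ ∀ p : ↥(𝟙_ (Over S)).left, η[G].left.base p ∈ U := by
  let e : S ⟶ G.left := (η[G] : 𝟙_ (Over S) ⟶ G).left
  have he : e ≫ G.hom = 𝟙 S := Over.w (η[G] : 𝟙_ (Over S) ⟶ G)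
  have he' : ∀ t : S, G.hom (e t) = t := by
    intro t
    rw [← Scheme.Hom.comp_apply, he]
    rfl
  have hd : ∀ t : S, FlatMor.fibreDimAt G.hom (e t) = topologicalKrullDim ↥(G.hom.base ⁻¹' {t}) := by
    intro t
    rw [Groth.Agent.S3022.fibreDimAt_eq, Groth.Agent.S3022.dim_fiber, he']
  refine ⟨G.hom.smoothLocus, ?_, ?_⟩
  · rw [← Scheme.Hom.smoothLocus_eq_top_iff, ← Scheme.Hom.preimage_smoothLocus_eq]
    exact Scheme.Opens.ι_preimage_self _
  · intro s
    change e s ∈ G.hom.smoothLocus
    refine SchemeThm.mem_smoothLocus_of_section G.hom e he s (hfib s) ?_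
    intro t hts
    rw [hd, hd]
    have h1 : IsClopen {r : S | topologicalKrullDim ↥(G.hom.base ⁻¹' {r}) = topologicalKrullDim ↥(G.hom.base ⁻¹' {s})} :=
      ⟨hdim.isClosed_fiber _, hdim.isOpen_fiber _⟩
    have h2 : t ∈ {r : S | topologicalKrullDim ↥(G.hom.base ⁻¹' {r}) = topologicalKrullDim ↥(G.hom.base ⁻¹' {s})} :=
      hts.mem_open h1.2 rfl
    exact h2.ge

end Groth.Agent.Sga3.H779.GrpSmooth
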