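import Groth.Agent.Sga3.H779.SecGenLoc
import Groth.Agent.UnramB.SmoothCrit
import Groth.Agent.CalgB.SmoothReduced

/-!
# A smoothness criterion along a section over a reduced base
-/

set_option autoImplicit false

open TensorProduct

namespace Groth.Agent.Sga3.H779.Core

universe u

/-- Elements of the kernel of a surjection `C → B` from a standard smooth algebra of relative dimension `r` over a
reduced ring vanish near a section point, if the fibres of `B` have dimension at least `r` at the points of the
section. -/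
theorem exists_notMem_mul_eq_zero {R C B : Type u} [CommRing R] [IsReduced R] [CommRing C] [Algebra R C]
    [CommRing B] [Algebra R B] (r : ℕ) [Algebra.IsStandardSmoothOfRelativeDimension r R C]
    (φ : C →ₐ[R] B) (hφ : Function.Surjective φ) (p : Ideal R) [p.IsPrime]
    (ε : B →ₐ[R] Localization.AtPrime p)
    (hr : ∀ (p' : Ideal R) (_ : p'.IsPrime), p' ≤ p → ∃ Q : PrimeSpectrum (p'.Fiber B),
      Q.asIdeal.comap (Algebra.TensorProduct.includeRight : B →ₐ[R] p'.Fiber B) =
        (p'.map (algebraMap R (Localization.AtPrime p))).comap ε ∧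
      (r : WithBot ℕ∞) ≤ FlatMor.localDim (PrimeSpectrum (p'.Fiber B)) Q)
    (j : C) (hj : φ j = 0) :
    ∃ s : C, s ∉ ((IsLocalRing.maximalIdeal (Localization.AtPrime p)).comap ε).comap φ ∧ s * j = 0 := by
  have hsm : Algebra.IsStandardSmooth R C :=
    Algebra.IsStandardSmoothOfRelativeDimension.isStandardSmooth r
  have hsm' : Algebra.Smooth R C := inferInstance
  have hred : IsReduced C := Groth.Agent.CalgB.SmoothReduced.isReduced_of_smooth R C
  let q : Ideal C := ((IsLocalRing.maximalIdeal (Localization.AtPrime p)).comap ε).comap φ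
  have hqp : q.IsPrime := inferInstance
  let L := Localization.AtPrime q
  have hredL : IsReduced L := inferInstance
  have hmin : ∀ m : Ideal C, m ∈ minimalPrimes C → m ≤ q → j ∈ m := by
    intro m hm hmq
    have hmp : m.IsPrime := hm.1.1
    have h1 := SecGenLoc.minimalPrime_le_section_local p (ε.comp φ) m hm hmq
    have h2 : m.under R ≤ p := by
      intro x hx
      have h3 : algebraMap R C x ∈ q := hmq hx
      change ε (φ (algebraMap R C x)) ∈ IsLocalRing.maximalIdeal (Localization.AtPrime p) at h3
      rw [AlgHom.commutes, AlgHom.commutes] at h3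
      exact (IsLocalization.AtPrime.to_map_mem_maximal_iff (Localization.AtPrime p) p x).mp h3
    obtain ⟨Q, hQ, hdim⟩ := hr (m.under R) inferInstance h2
    let K := (m.under R).ResidueField
    let ψ : K ⊗[R] C →ₐ[K] K ⊗[R] B := Algebra.TensorProduct.map (AlgHom.id K K) φ
    have hψ : Function.Surjective ψ := by
      intro z
      induction z with
      | zero => exact ⟨0, map_zero _⟩
      | tmul x b =>
        obtain ⟨c, rfl⟩ := hφ b
        exact ⟨x ⊗ₜ c, by rw [Algebra.TensorProduct.map_tmul, AlgHom.id_apply]⟩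
      | add x y hx hy =>
        obtain ⟨a, rfl⟩ := hx
        obtain ⟨b, rfl⟩ := hy
        exact ⟨a + b, map_add _ _ _⟩
    obtain ⟨s₀, hs₀, hs₀j⟩ := Groth.Agent.UnramB.SmoothCrit.exists_notMem_mul_eq_zero_of_localDim_field (K := K) r
      (ψ : K ⊗[R] C →+* K ⊗[R] B) hψ Q hdim (1 ⊗ₜ j) (by
        change ψ (1 ⊗ₜ j) = 0
        rw [Algebra.TensorProduct.map_tmul, hj, TensorProduct.tmul_zero])
    -- the prime of the fibre over `m`
    let o := PrimeSpectrum.preimageOrderIsoFiber R C ⟨m.under R, inferInstance⟩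
    let m' : PrimeSpectrum.comap (algebraMap R C) ⁻¹' {⟨m.under R, inferInstance⟩} :=
      ⟨⟨m, hmp⟩, rfl⟩
    let Q' : PrimeSpectrum ((m.under R).Fiber C) := PrimeSpectrum.comap (ψ : K ⊗[R] C →+* K ⊗[R] B) Q
    have h3 : o m' ≤ Q' := by
      rw [← o.apply_symm_apply Q']
      apply o.monotone
      change m ≤ (o.symm Q').1.asIdeal
      intro x hx
      have h4 : ε (φ x) ∈ (m.under R).map (algebraMap R (Localization.AtPrime p)) := h1 hx
      have h5 : φ x ∈ Q.asIdeal.comap (Algebra.TensorProduct.includeRight : B →ₐ[R] (m.under R).Fiber B) := by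
        rw [hQ]; exact h4
      change ψ (1 ⊗ₜ x) ∈ Q.asIdeal
      rw [Algebra.TensorProduct.map_tmul, map_one]
      exact h5
    have h4 : s₀ ∉ (o m').asIdeal := fun h ↦ hs₀ (h3 h)
    have h5 : (1 : K) ⊗ₜ[R] j ∈ (o m').asIdeal := by
      have h6 : s₀ * (1 ⊗ₜ j) ∈ (o m').asIdeal := by rw [hs₀j]; exact zero_mem _
      exact ((o m').2.mem_or_mem h6).resolve_left h4
    have h6 : j ∈ (o.symm (o m')).1.asIdeal := h5
    rw [o.symm_apply_apply] at h6
    exact h6
  have h0 : algebraMap C L j = 0 := by
    apply IsReduced.eq_zero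
    rw [← mem_nilradical, nilradical, Ideal.radical_eq_sInf, Submodule.mem_sInf]
    rintro (P : Ideal L) ⟨-, (hP : P.IsPrime)⟩
    have h1 : P.comap (algebraMap C L) ≤ q := by
      intro x hx
      by_contra hxq
      apply hP.ne_top
      refine Ideal.eq_top_of_isUnit_mem _ hx ?_
      exact IsLocalization.map_units L (⟨x, hxq⟩ : q.primeCompl)
    have hPc : (P.comap (algebraMap C L)).IsPrime := inferInstance
    obtain ⟨m, hm, hle⟩ := Ideal.exists_minimalPrimes_le (I := (⊥ : Ideal C))
      (J := P.comap (algebraMap C L)) bot_le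
    exact hle (hmin m hm (hle.trans h1))
  rw [IsLocalization.map_eq_zero_iff q.primeCompl] at h0
  obtain ⟨s, hs⟩ := h0
  exact ⟨s, s.2, hs⟩

end Groth.Agent.Sga3.H779.Core
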