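import Groth.Agent.Sga3.H805.DetAll
import Groth.Agent.Sga3.H805.CharExt
import Groth.Agent.Sga3B.SplitBc264
import Groth.Agent.Books.AntiAffine

/-!
# Characters detecting central tori are defined over finite extensions

* `exists_field`: a function on `G_L` is defined over a finite subextension of `L / K`;
* `exists_descend`: a character of `G_L` whose functions are defined over `E` is defined over `E`;
* `exists_det_finite`: a reductive group over `K` has, over a finite extension, a character to `D(M)` detecting the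
  central tori.
-/

set_option autoImplicit false

universe u

open CategoryTheory MonoidalCategory CartesianMonoidalCategory MonObj GrpObj AlgebraicGeometry Limits

namespace Groth.Agent.Sga3.H779.DetFinite

open Groth.Agent.Sga3B H805.CharK H805.Det H805.SecExt H805.CharExt DSPts

section Pr

variable {S T T' : Scheme.{u}} (g : T' ⟶ T) (y : T ⟶ S) (y' : T' ⟶ S) (h : g ≫ y = y') (G : Over S)

/-- the projection `G_{T'} ⟶ G_T` -/
noncomputable def pr : (Red.bc y' G).left ⟶ (Red.bc y G).left :=
  pullback.lift (pullback.fst G.hom y') (pullback.snd G.hom y' ≫ g) (by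
    rw [pullback.condition, Category.assoc, h])

lemma pr_fst : pr g y y' h G ≫ pullback.fst G.hom y = pullback.fst G.hom y' := pullback.lift_fst _ _ _

lemma pr_hom : pr g y y' h G ≫ (Red.bc y G).hom = (Red.bc y' G).hom ≫ g := pullback.lift_snd _ _ _

lemma isPullback_pr : IsPullback (pr g y y' h G) (Red.bc y' G).hom (Red.bc y G).hom g := by
  subst h
  refine IsPullback.of_right (h₁₂ := pullback.fst G.hom y) (h₂₂ := y) (v₁₃ := G.hom) ?_ (pr_hom g y _ rfl G)
    (IsPullback.of_hasPullback G.hom y)
  rw [pr_fst]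
  exact IsPullback.of_hasPullback G.hom (g ≫ y)

lemma hom_ext_pr {Z : Scheme.{u}} {a b : Z ⟶ (Red.bc y G).left}
    (h1 : a ≫ pullback.fst G.hom y = b ≫ pullback.fst G.hom y)
    (h2 : a ≫ (Red.bc y G).hom = b ≫ (Red.bc y G).hom) : a = b :=
  pullback.hom_ext h1 h2

end Pr

section Fields

/-- functions inject under field extensions -/
theorem appTop_injective {E L : Type u} [Field E] [Field L] [Algebra E L] {X Y : Scheme.{u}}
    {f : X ⟶ Spec (CommRingCat.of E)} {g : Y ⟶ X} {iY : Y ⟶ Spec (CommRingCat.of L)}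
    (H : IsPullback g iY f (Spec.map (CommRingCat.ofHom (algebraMap E L)))) [CompactSpace X] [QuasiSeparatedSpace X] :
    Function.Injective g.appTop := by
  have h1 := isPushout_str H
  let _ : Algebra E Γ(X, ⊤) := (str f ⊤).toAlgebra
  let _ : Algebra Γ(X, ⊤) Γ(Y, ⊤) := g.appTop.hom.toAlgebra
  let _ : Algebra L Γ(Y, ⊤) := (str iY ⊤).toAlgebra
  let _ : Algebra E Γ(Y, ⊤) := (g.appTop.hom.comp (str f ⊤)).toAlgebra
  have t1 : IsScalarTower E Γ(X, ⊤) Γ(Y, ⊤) := IsScalarTower.of_algebraMap_eq' rfl
  have t2 : IsScalarTower E L Γ(Y, ⊤) := IsScalarTower.of_algebraMap_eq fun r => appTop_str H.w r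
  have h2 : Algebra.IsPushout E L Γ(X, ⊤) Γ(Y, ⊤) := CommRingCat.isPushout_iff_isPushout.mp h1
  have h3 : Function.Injective (Algebra.TensorProduct.includeRight : Γ(X, ⊤) →ₐ[E] TensorProduct E L Γ(X, ⊤)) :=
    Algebra.TensorProduct.includeRight_injective (algebraMap E L).injective
  intro a b hab
  apply h3
  apply (Algebra.IsPushout.equiv E L Γ(X, ⊤) Γ(Y, ⊤)).injective
  simp only [Algebra.TensorProduct.includeRight_apply, Algebra.IsPushout.equiv_tmul, map_one, _root_.one_mul]
  exact hab

variable {K L : Type u} [Field K] [Field L] [Algebra K L] {S : Scheme.{u}}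
  (x : Spec (CommRingCat.of K) ⟶ S) (z : Spec (CommRingCat.of L) ⟶ S)
  (hz : Spec.map (CommRingCat.ofHom (algebraMap K L)) ≫ x = z) (G : Over S)

/-- the map `Spec E → S` -/
noncomputable abbrev mid (E : IntermediateField K L) : Spec (CommRingCat.of E) ⟶ S :=
  Spec.map (CommRingCat.ofHom (algebraMap K E)) ≫ x

include hz in
lemma comp_mid (E : IntermediateField K L) :
    Spec.map (CommRingCat.ofHom (algebraMap E L)) ≫ mid x E = z := by
  rw [mid, ← Category.assoc, ← Spec.map_comp, ← CommRingCat.ofHom_comp, ← IsScalarTower.algebraMap_eq, hz]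

/-- **Functions are defined over finite subextensions.** -/
theorem exists_field [CompactSpace (Red.bc x G).left] [QuasiSeparatedSpace (Red.bc x G).left]
    (w : Γ((Red.bc z G).left, ⊤)) :
    ∃ T : Finset L, ∀ E : IntermediateField K L, (T : Set L) ⊆ E →
      ∃ v, (pr (Spec.map (CommRingCat.ofHom (algebraMap E L))) (mid x E) z (comp_mid x z hz E) G).appTop v = w := by
  classical
  let q := pr (Spec.map (CommRingCat.ofHom (algebraMap K L))) x z hz G
  have H : IsPullback q (Red.bc z G).hom (Red.bc x G).hom (Spec.map (CommRingCat.ofHom (algebraMap K L))) :=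
    isPullback_pr _ _ _ _ _
  have h1 := isPushout_str H
  let _ : Algebra K Γ((Red.bc x G).left, ⊤) := (str (Red.bc x G).hom ⊤).toAlgebra
  let _ : Algebra Γ((Red.bc x G).left, ⊤) Γ((Red.bc z G).left, ⊤) := q.appTop.hom.toAlgebra
  let _ : Algebra L Γ((Red.bc z G).left, ⊤) := (str (Red.bc z G).hom ⊤).toAlgebra
  let _ : Algebra K Γ((Red.bc z G).left, ⊤) := (q.appTop.hom.comp (str (Red.bc x G).hom ⊤)).toAlgebra
  have t1 : IsScalarTower K Γ((Red.bc x G).left, ⊤) Γ((Red.bc z G).left, ⊤) := IsScalarTower.of_algebraMap_eq' rfl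
  have t2 : IsScalarTower K L Γ((Red.bc z G).left, ⊤) := IsScalarTower.of_algebraMap_eq fun r => appTop_str H.w r
  have h2 : Algebra.IsPushout K L Γ((Red.bc x G).left, ⊤) Γ((Red.bc z G).left, ⊤) :=
    CommRingCat.isPushout_iff_isPushout.mp h1
  induction w using h2.out.inductionOn with
  | zero => exact ⟨∅, fun E _ => ⟨0, map_zero _⟩⟩
  | tmul m =>
    refine ⟨∅, fun E _ => ?_⟩
    let p := pr (Spec.map (CommRingCat.ofHom (algebraMap E L))) (mid x E) z (comp_mid x z hz E) G
    let q' := pr (Spec.map (CommRingCat.ofHom (algebraMap K E))) x (mid x E) rfl G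
    have h3 : p ≫ q' = q := by
      apply hom_ext_pr
      · rw [Category.assoc, pr_fst, pr_fst, pr_fst]
      · rw [Category.assoc, pr_hom, ← Category.assoc, pr_hom, pr_hom, Category.assoc, ← Spec.map_comp,
          ← CommRingCat.ofHom_comp, ← IsScalarTower.algebraMap_eq]
    refine ⟨q'.appTop m, ?_⟩
    have h4 := congr($(Scheme.Hom.comp_appTop p q') m)
    rw [h3] at h4
    exact h4.symm
  | smul s n hn =>
    obtain ⟨T, hT⟩ := hn
    refine ⟨insert s T, fun E hE => ?_⟩
    obtain ⟨v, hv⟩ := hT E ((Finset.coe_subset.mpr (Finset.subset_insert s T)).trans hE)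
    have hs : s ∈ E := hE (Finset.mem_coe.mpr (Finset.mem_insert_self s T))
    refine ⟨str (Red.bc (mid x E) G).hom ⊤ ⟨s, hs⟩ * v, ?_⟩
    rw [map_mul, hv, Algebra.smul_def]
    congr 1
    exact appTop_str (pr_hom _ _ _ _ _) (⟨s, hs⟩ : E)
  | add a b ha hb =>
    obtain ⟨T, hT⟩ := ha
    obtain ⟨T', hT'⟩ := hb
    refine ⟨T ∪ T', fun E hE => ?_⟩
    obtain ⟨v, hv⟩ := hT E ((Finset.coe_subset.mpr Finset.subset_union_left).trans hE)
    obtain ⟨v', hv'⟩ := hT' E ((Finset.coe_subset.mpr Finset.subset_union_right).trans hE)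
    exact ⟨v + v', by rw [map_add, hv, hv']⟩

end Fields

section Descend

variable {E L : Type u} [Field E] [Field L] [Algebra E L]

lemma gen_injective (X : Over (Spec (CommRingCat.of E))) [QuasiCompact X.hom]
    [QuasiSeparated X.hom] : Function.Injective (gen L X).appTop := by
  have : CompactSpace X.left := (quasiCompact_iff_compactSpace (f := X.hom)).mp inferInstance
  have : QuasiSeparatedSpace X.left := (quasiSeparated_iff_quasiSeparatedSpace (f := X.hom)).mp inferInstance
  exact appTop_injective (f := X.hom) (IsPullback.of_hasPullback X.hom (Spec.map (CommRingCat.ofHom (algebraMap E L))))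

/-- **Descent of characters**: a character of `G_L` whose functions are defined over `E` is defined over `E`. -/
theorem exists_descend (G : Over (Spec (CommRingCat.of E))) [GrpObj G] [QuasiCompact G.hom] [QuasiSeparated G.hom]
    {M : Type} [AddCommGroup M]
    (ψ : Red.bc (Spec.map (CommRingCat.ofHom (algebraMap E L))) G ⟶ Red.DS (Spec (CommRingCat.of L)) M)
    [IsMonHom ψ] (hψ : ∀ m, ∃ v, (gen L G).appTop v = dsChar ψ m) :
    ∃ φ : G ⟶ Red.DS (Spec (CommRingCat.of E)) M, IsMonHom φ ∧ ∀ m,
      (gen L G).appTop (dsChar φ m) = dsChar ψ m := by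
  choose v hv using hψ
  have hinj := gen_injective (L := L) G
  let w : Multiplicative M →* Γ(G.left, ⊤) :=
    { toFun := v
      map_one' := by
        apply hinj
        rw [hv, map_one, map_one]
      map_mul' := fun a b => by
        apply hinj
        rw [map_mul, hv, hv, hv, map_mul] }
  refine ⟨dsEquiv G M w, ?_, fun m => ?_⟩
  · apply Sga3B.Pts.isMonHom_of_universal
    apply (dsEquiv (G ⊗ G) M).symm.injective
    change dsChar _ = dsChar _
    have hGG2 : QuasiCompact (G ⊗ G).hom := by
      change QuasiCompact (pullback.fst G.hom G.hom ≫ G.hom)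
      infer_instance
    have hGG3 : QuasiSeparated (G ⊗ G).hom := by
      change QuasiSeparated (pullback.fst G.hom G.hom ≫ G.hom)
      infer_instance
    let j := Spec.map (CommRingCat.ofHom (algebraMap E L))
    let g := gen L G
    let g2 := gen L (G ⊗ G)
    have hg2 : Function.Injective g2.appTop := gen_injective (G ⊗ G)
    have hnat : ∀ (φ : G ⊗ G ⟶ G) (x : Γ(G.left, ⊤)),
        g2.appTop (φ.left.appTop x) = ((Over.pullback j).map φ).left.appTop (g.appTop x) :=
      fun φ x => gen_app L φ x
    rw [← mul_eq_mul, dsChar_comp, dsChar_mul, dsChar_comp, dsChar_comp, dsChar_dsEquiv]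
    ext m
    apply hg2
    change g2.appTop (μ[G].left.appTop (v m)) =
      g2.appTop ((fst G G).left.appTop (v m) * (snd G G).left.appTop (v m))
    rw [map_mul, hnat, hnat, hnat, hv, map_mu G ψ m]
  · rw [dsChar_dsEquiv]
    exact hv m

end Descend

section Main

variable {S : Scheme.{u}} {K : Type u} [Field K] (x : Spec (CommRingCat.of K) ⟶ S)

/-- compactness of the fibre from the geometric one -/
lemma compactSpace_fib {L : Type u} [Field L] [Algebra K L] (z : Spec (CommRingCat.of L) ⟶ S)
    (hz : Spec.map (CommRingCat.ofHom (algebraMap K L)) ≫ x = z) (G : Over S) [CompactSpace (Red.bc z G).left] :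
    CompactSpace (Red.bc x G).left := by
  have H := isPullback_pr _ x z hz G
  have h1 : Surjective (Spec.map (CommRingCat.ofHom (algebraMap K L))) := by
    constructor
    intro s
    exact ⟨IsLocalRing.closedPoint L, @Subsingleton.elim (PrimeSpectrum K) _ _ _⟩
  have h2 : Surjective (pr _ x z hz G) := MorphismProperty.of_isPullback (P := @Surjective) H.flip h1
  constructor
  rw [← Set.range_eq_univ.mpr h2.surj]
  exact isCompact_range (pr _ x z hz G).continuous

lemma quasi_of_compactSpace (G : Over (Spec (CommRingCat.of K))) [GrpObj G] [CompactSpace G.left] :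
    QuasiCompact G.hom ∧ QuasiSeparated G.hom ∧ QuasiSeparatedSpace G.left := by
  have h1 : IsSeparated G.hom := Groth.Agent.Books.AntiAffine.isSeparated_hom G
  exact ⟨(quasiCompact_iff_compactSpace (f := G.hom)).mpr inferInstance, inferInstance,
    (quasiSeparated_iff_quasiSeparatedSpace (f := G.hom)).mp inferInstance⟩

/-- Descending a character to the field of definition of its functions, with `Det`. -/
theorem exists_det_of_field (G : Over S) [GrpObj G] {L : Type u} [Field L] [Algebra K L]
    (z : Spec (CommRingCat.of L) ⟶ S) (hz : Spec.map (CommRingCat.ofHom (algebraMap K L)) ≫ x = z)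
    [CompactSpace (Red.bc z G).left] {M : Type} [AddCommGroup M]
    (χ : Red.bc z G ⟶ Red.DS (Spec (CommRingCat.of L)) M) [IsMonHom χ]
    (hχ : ∀ (r : ℕ) (i : Red.DS (Spec (CommRingCat.of L)) (Fin r → ℤ) ⟶ Red.bc z G) [IsMonHom i],
      IsCen i → i ≫ χ = 1 → i = 1)
    (hf : ∀ m, ∃ v, (pr (Spec.map (CommRingCat.ofHom (algebraMap K L))) x z hz G).appTop v = dsChar χ m) :
    ∃ (φ : Red.bc x G ⟶ Red.DS (Spec (CommRingCat.of K)) M) (_ : IsMonHom φ),
      Det φ L (Spec.map (CommRingCat.ofHom (algebraMap K L))) := by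
  let b := Spec.map (CommRingCat.ofHom (algebraMap K L))
  have hc := compactSpace_fib x z hz G
  obtain ⟨hq1, hq2, hq3⟩ := quasi_of_compactSpace (Red.bc x G)
  let e : Grp.mk (Red.bc z G) ≅ Grp.mk (Red.bc b (Red.bc x G)) :=
    BcIso.bcCongrIso hz.symm G ≪≫ BcIso.bcCompIso b x G
  have he : e.hom.hom.hom.left ≫ gen L (Red.bc x G) = pr b x z hz G := by
    apply hom_ext_pr
    · rw [pr_fst, Category.assoc]
      have h1 : e.hom.hom.hom.left = (BcIso.bcCongrIso hz.symm G).hom.hom.hom.left ≫
        (BcIso.bcCompIso b x G).hom.hom.hom.left := rfl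
      rw [h1, Category.assoc]
      refine (congrArg (fun t => (BcIso.bcCongrIso hz.symm G).hom.hom.hom.left ≫ t)
        (SplitBc264.bcCompIso_left b x G)).trans ?_
      exact SplitBc264.bcCongrIso_left hz.symm G
    · rw [pr_hom, Category.assoc]
      have h1 : gen L (Red.bc x G) ≫ (Red.bc x G).hom = (Red.bc b (Red.bc x G)).hom ≫ b := pullback.condition
      rw [h1, ← Category.assoc, Over.w]
  let E := RedIso.und e
  have hE : IsMonHom E.hom := inferInstanceAs (IsMonHom e.hom.hom.hom)
  have hE' : IsMonHom E.inv := inferInstance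
  have hE'' : IsMonHom E.symm.hom := hE'
  have he' : E.inv.left ≫ pr b x z hz G = gen L (Red.bc x G) := by
    rw [← he]
    have h1 : E.inv.left ≫ E.hom.left = 𝟙 _ := by
      rw [← Over.comp_left, E.inv_hom_id]
      rfl
    rw [← Category.assoc]
    change (E.inv.left ≫ E.hom.left) ≫ _ = _
    rw [h1, Category.id_comp]
  have hchar : ∀ m v, (pr b x z hz G).appTop v = dsChar χ m →
      (gen L (Red.bc x G)).appTop v = dsChar (E.inv ≫ χ) m := by
    intro m v hv
    rw [dsChar_comp]
    have h1 := congr($(Scheme.Hom.comp_appTop E.inv.left (pr b x z hz G)) v)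
    rw [he'] at h1
    refine h1.trans ?_
    exact congrArg E.inv.left.appTop hv
  obtain ⟨φ, hφm, hφ⟩ := exists_descend (L := L) (Red.bc x G) (E.inv ≫ χ) (fun m => by
    obtain ⟨v, hv⟩ := hf m
    exact ⟨v, hchar m v hv⟩)
  refine ⟨φ, hφm, ?_⟩
  intro r i _ hi hiφ
  have h1 : (DSPts.bcEquiv b _ (Red.bc x G)).symm i ≫ φ = 1 := by
    apply (DSPts.bcEquiv b _ _).injective
    rw [← DSPts.bcEquiv_comp, MulEquiv.apply_symm_apply, map_one]
    exact hiφ
  have h2 : i ≫ E.inv ≫ χ = 1 := by
    apply (dsEquiv _ M).symm.injective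
    rw [map_one]
    change dsChar _ = _
    rw [dsChar_comp]
    have h3 := congrArg dsChar h1
    rw [dsChar_comp] at h3
    refine MonoidHom.ext fun m => ?_
    have h4 := congr($h3 m)
    change ((DSPts.bcEquiv b _ (Red.bc x G)).symm i).left.appTop (dsChar φ m) = dsChar 1 m at h4
    have h5 : dsChar (1 : (Over.map b).obj (Red.DS (Spec (CommRingCat.of L)) (Fin r → ℤ)) ⟶
        Red.DS (Spec (CommRingCat.of K)) M) m = 1 :=
      congr($(map_one (dsEquiv ((Over.map b).obj (Red.DS (Spec (CommRingCat.of L)) (Fin r → ℤ))) M).symm) m)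
    rw [h5, DSPts.bcEquiv_symm_left, Scheme.Hom.comp_appTop] at h4
    change i.left.appTop (dsChar (E.inv ≫ χ) m) = 1
    rw [← hφ m]
    exact h4
  have h3 := hχ r (i ≫ E.inv) ((isCen_comp_iso i E.symm).mpr hi) (by rw [Category.assoc]; exact h2)
  exact (comp_iso_eq_one i E.symm).mp h3

/-- **Detecting characters over finite extensions.** -/
theorem exists_det_finite (G : Over S) [GrpObj G]
    (hred : Red.IsReductiveOver (AlgebraicClosure K)
      (Red.bc (Spec.map (CommRingCat.ofHom (algebraMap K (AlgebraicClosure K))) ≫ x) G)) :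
    ∃ (K' : IntermediateField K (AlgebraicClosure K)) (_ : FiniteDimensional K K') (M : Type) (_ : AddCommGroup M)
      (_ : Module.Finite ℤ M)
      (χ : Red.bc (Spec.map (CommRingCat.ofHom (algebraMap K K')) ≫ x) G ⟶ Red.DS (Spec (CommRingCat.of K')) M)
      (_ : IsMonHom χ),
      Det χ (AlgebraicClosure K) (Spec.map (CommRingCat.ofHom (algebraMap K' (AlgebraicClosure K)))) := by
  classical
  let z := Spec.map (CommRingCat.ofHom (algebraMap K (AlgebraicClosure K))) ≫ x
  have haff : IsAffine (Red.bc z G).left := hred.1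
  have hsm : Smooth (Red.bc z G).hom := hred.2.1
  obtain ⟨M, _, _, χ₀, _, hχ₀⟩ := exists_faithful_char (Red.bc z G)
  have hc : CompactSpace (Red.bc x G).left := compactSpace_fib x z rfl G
  obtain ⟨-, -, hq3⟩ := quasi_of_compactSpace (Red.bc x G)
  obtain ⟨s, hs⟩ : (⊤ : AddSubmonoid M).FG :=
    (AddGroup.fg_iff_addMonoid_fg.mp (Module.Finite.iff_addGroup_fg.mp ‹Module.Finite ℤ M›)).fg_top
  choose T hT using fun m => exists_field x z rfl G (dsChar χ₀ m)
  let T' : Finset (AlgebraicClosure K) := s.biUnion fun m => T (Multiplicative.ofAdd m)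
  let F : IntermediateField K (AlgebraicClosure K) := IntermediateField.adjoin K (T' : Set (AlgebraicClosure K))
  have hfin : FiniteDimensional K F :=
    IntermediateField.finiteDimensional_adjoin fun a _ => Algebra.IsIntegral.isIntegral a
  have hTF : (T' : Set (AlgebraicClosure K)) ⊆ F := IntermediateField.subset_adjoin K _
  have hall : ∀ m : M, ∃ v, (pr (Spec.map (CommRingCat.ofHom (algebraMap F (AlgebraicClosure K)))) (mid x F) z
      (comp_mid x z rfl F) G).appTop v = dsChar χ₀ (Multiplicative.ofAdd m) := by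
    intro m
    have hm : m ∈ AddSubmonoid.closure (s : Set M) := by rw [hs]; trivial
    induction hm using AddSubmonoid.closure_induction with
    | mem a ha =>
      refine hT (Multiplicative.ofAdd a) F (subset_trans ?_ hTF)
      exact Finset.coe_subset.mpr (Finset.subset_biUnion_of_mem (fun m => T (Multiplicative.ofAdd m)) ha)
    | zero => exact ⟨1, by rw [map_one, ofAdd_zero, map_one]⟩
    | add a b _ _ ha hb =>
      obtain ⟨v, hv⟩ := ha
      obtain ⟨v', hv'⟩ := hb
      exact ⟨v * v', by rw [map_mul, hv, hv', ofAdd_add, map_mul]⟩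
  obtain ⟨φ, hφ, hdet⟩ := exists_det_of_field (mid x F) G z (comp_mid x z rfl F) χ₀ hχ₀
    (fun m => hall (Multiplicative.toAdd m))
  exact ⟨F, hfin, M, inferInstance, inferInstance, φ, hφ, hdet⟩

end Main

end Groth.Agent.Sga3.H779.DetFinite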