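import Mathlib
import Groth.Agent.Sga3.H778.NeutralPts

/-!
# Extension of inner automorphisms of the generic fibre

`S` a scheme, `η ⟶ S` a quasi-compact quasi-separated morphism in which `S` is integrally closed
(`IsIso η.hom.fromNormalization`; e.g. the generic point of a normal integral scheme). `G` a smooth separated
quasi-compact group with connected fibres, `f : G ⟶ H` a locally quasi-finite homomorphism to a separated group,
`x ∈ G(η)` with `f(x) ∈ H(S)`. Then `int(x)` extends to an endomorphism of the `S`-group `G`.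
-/

set_option autoImplicit false
open CategoryTheory MonoidalCategory CartesianMonoidalCategory MonObj GrpObj AlgebraicGeometry Limits
universe u

namespace Groth.Agent.Sga3.H779.ExtConj

variable {S : Scheme.{u}}

section dense

/-- Being integrally closed in `U` is stable under smooth base change. -/
theorem isIso_fromNormalization {U X : Scheme.{u}} (i : U ⟶ S) [QuasiCompact i] [QuasiSeparated i]
    [IsIso i.fromNormalization] (g : X ⟶ S) [Smooth g] : IsIso (pullback.snd i g).fromNormalization := by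
  rw [← Scheme.Hom.normalizationPullback_snd]
  infer_instance

variable (ξ : Over S) [QuasiCompact ξ.hom] [QuasiSeparated ξ.hom] [IsIso ξ.hom.fromNormalization]

/-- Sections of integral morphisms extend. -/
theorem exists_section {X N : Over S} [Smooth X.hom] (ν : N ⟶ X) [IsIntegralHom ν.left]
    (σ : ξ ⊗ X ⟶ N) (hσ : σ ≫ ν = snd ξ X) : ∃ τ : X ⟶ N, τ ≫ ν = 𝟙 X ∧ snd ξ X ≫ τ = σ := by
  have h1 := isIso_fromNormalization ξ.hom X.hom
  have e : pullback.snd ξ.hom X.hom = σ.left ≫ ν.left := by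
    rw [← Over.comp_left, hσ]; rfl
  let d := (pullback.snd ξ.hom X.hom).normalizationDesc σ.left ν.left e
  have hd : d ≫ ν.left = (pullback.snd ξ.hom X.hom).fromNormalization := Scheme.Hom.normalizationDesc_comp _ _ _ e
  have hd' : (pullback.snd ξ.hom X.hom).toNormalization ≫ d = σ.left :=
    Scheme.Hom.toNormalization_normalizationDesc _ _ _ e
  let t : X.left ⟶ N.left := inv (pullback.snd ξ.hom X.hom).fromNormalization ≫ d
  have ht : t ≫ ν.left = 𝟙 _ := by rw [Category.assoc, hd, IsIso.inv_hom_id]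
  refine ⟨Over.homMk t ?_, ?_, ?_⟩
  · rw [← Over.w ν, ← Category.assoc, ht, Category.id_comp]
  · ext1
    exact ht
  · ext1
    change pullback.snd ξ.hom X.hom ≫ t = σ.left
    have h2 : (pullback.snd ξ.hom X.hom).toNormalization ≫ (pullback.snd ξ.hom X.hom).fromNormalization =
      pullback.snd ξ.hom X.hom := Scheme.Hom.toNormalization_fromNormalization _
    calc pullback.snd ξ.hom X.hom ≫ t
        = ((pullback.snd ξ.hom X.hom).toNormalization ≫ (pullback.snd ξ.hom X.hom).fromNormalization) ≫ t := by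
          rw [h2]
      _ = _ := by rw [Category.assoc, IsIso.hom_inv_id_assoc, hd']

/-- Morphisms from a smooth `S`-scheme are determined by their restriction to `ξ`. -/
theorem hom_ext {X Y Z : Over S} [Smooth X.hom] (q : Y ⟶ Z) [IsSeparated q.left] (a b : X ⟶ Y)
    (hq : a ≫ q = b ≫ q) (h : snd ξ X ≫ a = snd ξ X ≫ b) : a = b := by
  have hq' : a.left ≫ q.left = b.left ≫ q.left := congrArg (fun k => k.left) hq
  -- the equalizer
  let E := pullback (pullback.lift a.left b.left hq') (pullback.diagonal q.left)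
  let e : E ⟶ X.left := pullback.fst (pullback.lift a.left b.left hq') (pullback.diagonal q.left)
  have he : IsClosedImmersion e := inferInstance
  have hab : e ≫ a.left = e ≫ b.left := by
    have h1 := pullback.condition (f := pullback.lift a.left b.left hq') (g := pullback.diagonal q.left)
    have h2 := congrArg (fun k => k ≫ pullback.fst q.left q.left) h1
    have h3 := congrArg (fun k => k ≫ pullback.snd q.left q.left) h1
    simp only [Category.assoc, pullback.lift_fst, pullback.lift_snd, pullback.diagonal_fst,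
      pullback.diagonal_snd, Category.comp_id] at h2 h3
    exact h2.trans h3.symm
  have hl : pullback.snd ξ.hom X.hom ≫ a.left = pullback.snd ξ.hom X.hom ≫ b.left :=
    congrArg (fun k => k.left) h
  let l : (ξ ⊗ X : Over S).left ⟶ E := pullback.lift (pullback.snd ξ.hom X.hom)
    (pullback.snd ξ.hom X.hom ≫ a.left) (by
      apply pullback.hom_ext
      · rw [Category.assoc, Category.assoc, pullback.lift_fst, pullback.diagonal_fst, Category.comp_id]
      · rw [Category.assoc, Category.assoc, pullback.lift_snd, pullback.diagonal_snd, Category.comp_id, hl])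
  have hle : l ≫ e = pullback.snd ξ.hom X.hom := pullback.lift_fst _ _ _
  let EO : Over S := Over.mk (e ≫ X.hom)
  let eO : EO ⟶ X := Over.homMk e
  have : IsIntegralHom eO.left := by change IsIntegralHom e; infer_instance
  let lO : ξ ⊗ X ⟶ EO := Over.homMk l (by
    change l ≫ e ≫ X.hom = _
    rw [← Category.assoc, hle]
    exact Over.w (snd ξ X))
  obtain ⟨τ, hτ1, -⟩ := exists_section ξ eO lO (by ext1; exact hle)
  have hτ : τ.left ≫ e = 𝟙 _ := congrArg (fun k => k.left) hτ1
  ext1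
  rw [← Category.id_comp a.left, ← hτ, Category.assoc, hab, ← Category.assoc, hτ, Category.id_comp]

end dense

section conj

/-- a morphism compatible with multiplication is a homomorphism of groups -/
theorem isMonHom_of_mul {G G' : Over S} [GrpObj G] [GrpObj G'] (ψ : G ⟶ G')
    (h : (fst G G * snd G G) ≫ ψ = (fst G G ≫ ψ) * (snd G G ≫ ψ)) : IsMonHom ψ := by
  have hmul : ∀ {X : Over S} (a b : X ⟶ G), (a * b) ≫ ψ = (a ≫ ψ) * (b ≫ ψ) := by
    intro X a b
    have h1 : lift a b ≫ ((fst G G * snd G G) ≫ ψ) = lift a b ≫ ((fst G G ≫ ψ) * (snd G G ≫ ψ)) := by rw [h]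
    rw [← Category.assoc, MonObj.comp_mul, lift_fst, lift_snd, MonObj.comp_mul, ← Category.assoc, lift_fst,
      ← Category.assoc, lift_snd] at h1
    exact h1
  have hone : (1 : 𝟙_ (Over S) ⟶ G) ≫ ψ = 1 := by
    have h2 := hmul (1 : 𝟙_ (Over S) ⟶ G) 1
    rw [_root_.mul_one] at h2
    calc (1 : 𝟙_ (Over S) ⟶ G) ≫ ψ = ((1 : 𝟙_ (Over S) ⟶ G) ≫ ψ)⁻¹ *
          (((1 : 𝟙_ (Over S) ⟶ G) ≫ ψ) * ((1 : 𝟙_ (Over S) ⟶ G) ≫ ψ)) := by group
      _ = 1 := by rw [← h2]; group
  constructor
  · rw [MonObj.one_eq_one, hone, MonObj.one_eq_one]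
  · have h3 : (fst G G * snd G G : G ⊗ G ⟶ G) = μ := by
      rw [Hom.mul_def, lift_fst_snd, Category.id_comp]
    rw [← h3, h, Hom.mul_def]
    congr 1

variable (ξ : Over S) [QuasiCompact ξ.hom] [QuasiSeparated ξ.hom] [IsIso ξ.hom.fromNormalization]
  {G H : Over S} [GrpObj G] [GrpObj H]

/-- conjugation by a point -/
noncomputable def conjMor {G : Over S} [GrpObj G] {T : Over S} (x : T ⟶ G) : T ⊗ G ⟶ G :=
  (fst T G ≫ x) * snd T G * (fst T G ≫ x)⁻¹

lemma lift_conjMor {G : Over S} [GrpObj G] {T X : Over S} (x : T ⟶ G) (t : X ⟶ T) (y : X ⟶ G) :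
    lift t y ≫ conjMor x = (t ≫ x) * y * (t ≫ x)⁻¹ := by
  rw [conjMor, MonObj.comp_mul, MonObj.comp_mul, GrpObj.comp_inv, ← Category.assoc, lift_fst, lift_snd]

lemma conjMor_comp {G H : Over S} [GrpObj G] [GrpObj H] {T : Over S} (x : T ⟶ G) (f : G ⟶ H) [IsMonHom f] :
    conjMor x ≫ f = (fst T G ≫ x ≫ f) * (snd T G ≫ f) * (fst T G ≫ x ≫ f)⁻¹ := by
  rw [conjMor, MonObj.mul_comp, MonObj.mul_comp, GrpObj.inv_comp, Category.assoc]

/-- **Extension of inner automorphisms.** -/
theorem exists_extend [Smooth G.hom] [IsSeparated G.hom] [QuasiCompact G.hom]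
    (hconn : ∀ s : S, _root_.IsConnected (G.hom.base ⁻¹' {s})) [LocallyOfFiniteType H.hom] [IsSeparated H.hom]
    (f : G ⟶ H) [IsMonHom f] [LocallyQuasiFinite f.left] (x : ξ ⟶ G) (h : 𝟙_ (Over S) ⟶ H)
    (hx : x ≫ f = toUnit ξ ≫ h) :
    ∃ ψ : G ⟶ G, IsMonHom ψ ∧ ∀ (X : Over S) (t : X ⟶ ξ) (y : X ⟶ G),
      y ≫ ψ = (t ≫ x) * y * (t ≫ x)⁻¹ := by
  have i1 : LocallyOfFiniteType f.left := by
    have : LocallyOfFiniteType (f.left ≫ H.hom) := by rw [Over.w]; infer_instance
    exact locallyOfFiniteType_of_comp f.left H.hom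
  have i2 : QuasiCompact f.left := by
    have : QuasiCompact (f.left ≫ H.hom) := by rw [Over.w]; infer_instance
    exact .of_comp f.left H.hom
  have i3 : IsSeparated f.left := by
    have : IsSeparated (f.left ≫ H.hom) := by rw [Over.w]; infer_instance
    exact .of_comp f.left H.hom
  let ch : H ⟶ H := (toUnit H ≫ h) * 𝟙 H * (toUnit H ≫ h)⁻¹
  have hch : ∀ {X : Over S} (y : X ⟶ H), y ≫ ch = (toUnit X ≫ h) * y * (toUnit X ≫ h)⁻¹ := by
    intro X y
    simp only [ch, MonObj.comp_mul, GrpObj.comp_inv, Category.comp_id]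
    rw [← Category.assoc, toUnit_unique (y ≫ toUnit H) (toUnit X)]
  have hchm : ∀ {X : Over S} (y z : X ⟶ H), (y * z) ≫ ch = (y ≫ ch) * (z ≫ ch) := by
    intro X y z
    rw [hch, hch, hch]
    group
  let P := pullback (f.left ≫ ch.left) f.left
  let p1 : P ⟶ G.left := pullback.fst (f.left ≫ ch.left) f.left
  let p2 : P ⟶ G.left := pullback.snd (f.left ≫ ch.left) f.left
  have hp2 : p2 ≫ G.hom = p1 ≫ G.hom := by
    have h1 := congrArg (fun k => k ≫ H.hom) (pullback.condition (f := f.left ≫ ch.left) (g := f.left))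
    simp only [Category.assoc, Over.w] at h1
    exact h1.symm
  let PO : Over S := Over.mk (p1 ≫ G.hom)
  let q1 : PO ⟶ G := Over.homMk p1
  let q2 : PO ⟶ G := Over.homMk p2 hp2
  have hq : q1 ≫ f ≫ ch = q2 ≫ f := by
    ext1
    exact pullback.condition (f := f.left ≫ ch.left) (g := f.left)
  -- universal property
  have hP : ∀ {X : Over S} (a b : X ⟶ G), a ≫ f ≫ ch = b ≫ f → ∃ c : X ⟶ PO, c ≫ q1 = a ∧ c ≫ q2 = b := by
    intro X a b hab
    have hab' : a.left ≫ f.left ≫ ch.left = b.left ≫ f.left := congrArg (fun k => k.left) hab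
    let c : X.left ⟶ P := pullback.lift a.left b.left hab'
    have hc1 : c ≫ p1 = a.left := pullback.lift_fst _ _ _
    have hc2 : c ≫ p2 = b.left := pullback.lift_snd _ _ _
    refine ⟨Over.homMk c ?_, ?_, ?_⟩
    · change c ≫ p1 ≫ G.hom = X.hom
      rw [← Category.assoc, hc1, Over.w]
    · ext1; exact hc1
    · ext1; exact hc2
  have hPext : ∀ {X : Over S} (a b : X ⟶ PO), a ≫ q1 = b ≫ q1 → a ≫ q2 = b ≫ q2 → a = b := by
    intro X a b h1 h2
    ext1
    exact pullback.hom_ext (congrArg (fun k => k.left) h1) (congrArg (fun k => k.left) h2)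
  -- the normalization
  let NO : Over S := Over.mk (p1.fromNormalization ≫ G.hom)
  let ν : NO ⟶ G := Over.homMk p1.fromNormalization
  let j : PO ⟶ NO := Over.homMk p1.toNormalization (by
    change p1.toNormalization ≫ p1.fromNormalization ≫ G.hom = p1 ≫ G.hom
    rw [← Category.assoc, p1.toNormalization_fromNormalization])
  have hjν : j ≫ ν = q1 := by
    ext1
    exact p1.toNormalization_fromNormalization
  have : IsIntegralHom ν.left := by change IsIntegralHom p1.fromNormalization; infer_instance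
  have hjo : IsOpenImmersion j.left := by change IsOpenImmersion p1.toNormalization; infer_instance
  have hjm : ∀ {X : Over S} {a b : X ⟶ PO}, a ≫ j = b ≫ j → a = b := by
    intro X a b hab
    ext1
    rw [← cancel_mono j.left]
    exact congrArg (fun k => k.left) hab
  -- the generic section
  obtain ⟨σξ, hσ1, hσ2⟩ := hP (snd ξ G) (conjMor x) (by
    rw [← Category.assoc, hch, conjMor_comp, hx, ← Category.assoc,
      toUnit_unique (fst ξ G ≫ toUnit ξ) (toUnit _)])
  obtain ⟨σ, hs1, hs2⟩ := exists_section ξ ν (σξ ≫ j) (by rw [Category.assoc, hjν, hσ1])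
  have hgen : ∀ {X : Over S} (t : X ⟶ ξ) (y : X ⟶ G), y ≫ σ = (lift t y ≫ σξ) ≫ j := by
    intro X t y
    rw [Category.assoc, ← hs2, ← Category.assoc, lift_snd]
  -- the open set where `σ` lands in `P`
  let W : G.left.Opens := σ.left ⁻¹ᵁ j.left.opensRange
  have hW : ∀ {X : Over S} (a : X ⟶ G), (∀ p, a.left p ∈ W) → ∃ c : X ⟶ PO, c ≫ j = a ≫ σ ∧ c ≫ q1 = a := by
    intro X a ha
    have hr : Set.range (a.left ≫ σ.left) ⊆ Set.range j.left := by
      rintro _ ⟨p, rfl⟩
      rw [Scheme.Hom.comp_apply]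
      exact ha p
    let c : X.left ⟶ P := IsOpenImmersion.lift j.left (a.left ≫ σ.left) hr
    have hc : c ≫ j.left = a.left ≫ σ.left := IsOpenImmersion.lift_fac _ _ _
    have hc1 : c ≫ p1 = a.left := by
      have h1 : j.left ≫ ν.left = p1 := congrArg (fun k => k.left) hjν
      have h2 : σ.left ≫ ν.left = 𝟙 _ := congrArg (fun k => k.left) hs1
      rw [← h1, ← Category.assoc, hc, Category.assoc, h2, Category.comp_id]
    refine ⟨Over.homMk c ?_, ?_, ?_⟩
    · change c ≫ p1 ≫ G.hom = X.hom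
      rw [← Category.assoc, hc1, Over.w]
    · ext1; exact hc
    · ext1; exact hc1
  have hc2 : ∀ {X : Over S} (a : X ⟶ G) (c : X ⟶ PO) (_ : c ≫ j = a ≫ σ) {Y : Over S} (t : Y ⟶ ξ) (y : Y ⟶ X),
      y ≫ c ≫ q2 = (t ≫ x) * (y ≫ a) * (t ≫ x)⁻¹ := by
    intro X a c hc Y t y
    have h1 : y ≫ c = lift t (y ≫ a) ≫ σξ := by
      apply hjm
      rw [Category.assoc, hc, ← Category.assoc, hgen t]
    rw [← Category.assoc, h1, Category.assoc, hσ2, lift_conjMor]
  -- the unit section
  obtain ⟨eP, he1, he2⟩ := hP (1 : 𝟙_ (Over S) ⟶ G) 1 (by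
    rw [← Category.assoc, hch, MonObj.one_comp]
    group)
  have : Smooth (𝟙_ (Over S)).hom := by change Smooth (𝟙 S); infer_instance
  have heP : (1 : 𝟙_ (Over S) ⟶ G) ≫ σ = eP ≫ j := by
    refine hom_ext ξ ν _ _ ?_ ?_
    · rw [Category.assoc, hs1, Category.comp_id, Category.assoc, hjν, he1]
    · rw [← Category.assoc, MonObj.comp_one, hgen (fst ξ (𝟙_ _)), ← Category.assoc]
      congr 1
      apply hPext
      · rw [Category.assoc, hσ1, lift_snd, Category.assoc, he1, MonObj.comp_one]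
      · rw [Category.assoc, hσ2, lift_conjMor, Category.assoc, he2, MonObj.comp_one]
        group
  have h1W : ∀ s : S, H778.NeutralPts.unitSec G s ∈ W := by
    intro s
    change σ.left ((η[G] : 𝟙_ (Over S) ⟶ G).left s) ∈ Set.range j.left
    refine ⟨eP.left s, ?_⟩
    rw [← Scheme.Hom.comp_apply, ← Scheme.Hom.comp_apply, ← Over.comp_left, ← Over.comp_left, ← heP,
      MonObj.one_eq_one]
  -- `σ` lands in `P`
  have hWtop : ∀ g : G.left, g ∈ W := by
    intro g
    have hnc : g ∈ SGA3x.neutralSet G := by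
      rw [H778.NeutralPts.neutralSet_eq]
      change g ∈ connectedComponentIn _ _
      rw [((hconn (G.hom g)).isPreconnected.connectedComponentIn
        (H778.NeutralPts.hom_unitSec G (G.hom g)))]
      rfl
    obtain ⟨w, hw1, hw2, hw3⟩ := H778.NeutralPts.exists_mul_eq g hnc W W.2 (h1W _)
    let Ω : (G ⊗ G : Over S).left.Opens := (fst G G).left ⁻¹ᵁ W ⊓ (snd G G).left ⁻¹ᵁ W
    let ΩO : Over S := Over.mk (Ω.ι ≫ (G ⊗ G : Over S).hom)
    let om : ΩO ⟶ G ⊗ G := Over.homMk Ω.ι
    have : Smooth ΩO.hom := by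
      have h1 : Smooth (G ⊗ G : Over S).hom := by
        rw [Over.tensorObj_hom]
        infer_instance
      change Smooth (Ω.ι ≫ (G ⊗ G : Over S).hom)
      infer_instance
    obtain ⟨c1, hc1j, hc1q⟩ := hW (om ≫ fst G G) (fun p => p.2.1)
    obtain ⟨c2, hc2j, hc2q⟩ := hW (om ≫ snd G G) (fun p => p.2.2)
    obtain ⟨b, hb1, hb2⟩ := hP ((om ≫ fst G G) * (om ≫ snd G G)) ((c1 ≫ q2) * (c2 ≫ q2)) (by
      have e1 : (om ≫ fst G G) ≫ f ≫ ch = (c1 ≫ q2) ≫ f := by
        rw [← hc1q, Category.assoc, hq, Category.assoc]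
      have e2 : (om ≫ snd G G) ≫ f ≫ ch = (c2 ≫ q2) ≫ f := by
        rw [← hc2q, Category.assoc, hq, Category.assoc]
      rw [← Category.assoc, MonObj.mul_comp, hchm, MonObj.mul_comp, ← e1, ← e2, Category.assoc, Category.assoc,
        Category.assoc, Category.assoc])
    have hbj : b ≫ j = ((om ≫ fst G G) * (om ≫ snd G G)) ≫ σ := by
      refine hom_ext ξ ν _ _ ?_ ?_
      · rw [Category.assoc, hjν, hb1, Category.assoc, hs1, Category.comp_id]
      · rw [← Category.assoc, ← Category.assoc, hgen (fst ξ ΩO)]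
        congr 1
        apply hPext
        · rw [Category.assoc, hb1, Category.assoc, hσ1, lift_snd]
        · rw [Category.assoc, hb2, Category.assoc, hσ2, lift_conjMor, MonObj.comp_mul,
            hc2 _ _ hc1j (fst ξ ΩO), hc2 _ _ hc2j (fst ξ ΩO), MonObj.comp_mul]
          group
    have hwΩ : w ∈ Ω := ⟨hw1, hw2⟩
    let w' : ΩO.left := ⟨w, hwΩ⟩
    have e : σ.left g = j.left (b.left w') := by
      rw [← Scheme.Hom.comp_apply, ← Over.comp_left, hbj, ← MonObj.comp_mul, Over.comp_left, Over.comp_left,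
        Scheme.Hom.comp_apply, Scheme.Hom.comp_apply]
      congr 1
      exact hw3.symm
    change σ.left g ∈ Set.range j.left
    rw [e]
    exact ⟨_, rfl⟩
  obtain ⟨c, hcj, -⟩ := hW (𝟙 G) (fun p => hWtop _)
  have hψ : ∀ (X : Over S) (t : X ⟶ ξ) (y : X ⟶ G), y ≫ c ≫ q2 = (t ≫ x) * y * (t ≫ x)⁻¹ := by
    intro X t y
    rw [hc2 _ _ hcj t, Category.comp_id]
  obtain ⟨F, hF⟩ : ∃ F : G ⟶ G, ∀ (X : Over S) (t : X ⟶ ξ) (y : X ⟶ G),
    y ≫ F = (t ≫ x) * y * (t ≫ x)⁻¹ := ⟨c ≫ q2, hψ⟩
  refine ⟨F, isMonHom_of_mul _ ?_, hF⟩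
  have : Smooth (G ⊗ G : Over S).hom := by
    rw [Over.tensorObj_hom]
    infer_instance
  have : IsSeparated (toUnit G : G ⟶ 𝟙_ (Over S)).left := by
    have : (toUnit G : G ⟶ 𝟙_ (Over S)).left = G.hom := Over.toUnit_left
    rw [this]
    infer_instance
  refine hom_ext ξ (toUnit G) _ _ (toUnit_unique _ _) ?_
  have e0 := hF _ (fst ξ (G ⊗ G)) (snd ξ (G ⊗ G) ≫ (fst G G * snd G G))
  have e1 := hF _ (fst ξ (G ⊗ G)) (snd ξ (G ⊗ G) ≫ fst G G)
  have e2 := hF _ (fst ξ (G ⊗ G)) (snd ξ (G ⊗ G) ≫ snd G G)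
  rw [← Category.assoc, e0, MonObj.comp_mul, MonObj.comp_mul, ← Category.assoc, e1, ← Category.assoc, e2]
  group

end conj

end Groth.Agent.Sga3.H779.ExtConj
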