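import Mathlib

/-!
# Points over a DVR from points over a dominating DVR
-/

set_option autoImplicit false
open CategoryTheory AlgebraicGeometry Limits
universe u

namespace Groth.Agent.Sga3.H779.ExtDvr

/-- an element of `K` which becomes integral in a dominating ring is integral -/
theorem mem_range_of_dvr (O K O₁ L : Type u) [CommRing O] [IsDomain O] [IsDiscreteValuationRing O] [Field K]
    [Algebra O K] [IsFractionRing O K] [CommRing O₁] [Field L] [Algebra O O₁] [Algebra O₁ L]
    [Algebra K L] [Algebra O L] [IsScalarTower O K L] [IsScalarTower O O₁ L]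
    [IsLocalHom (algebraMap O O₁)] (hinj : Function.Injective (algebraMap O₁ L)) (k : K)
    (hk : algebraMap K L k ∈ Set.range (algebraMap O₁ L)) : k ∈ Set.range (algebraMap O K) := by
  obtain ⟨o, ho⟩ := hk
  by_cases hk0 : k = 0
  · exact ⟨0, by rw [hk0, map_zero]⟩
  have hv := ValuationRing.isInteger_or_isInteger O k
  rcases hv with ⟨a, ha⟩ | ⟨a, ha⟩
  · exact ⟨a, ha⟩
  · have h1 : algebraMap O₁ L (o * algebraMap O O₁ a) = algebraMap O₁ L 1 := by
      rw [map_mul, ho, ← IsScalarTower.algebraMap_apply, IsScalarTower.algebraMap_apply O K L, ha, ← map_mul,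
        mul_inv_cancel₀ hk0, map_one, map_one]
    have h2 := hinj h1
    have h3 : IsUnit (algebraMap O O₁ a) := IsUnit.of_mul_eq_one _ (by rw [mul_comm]; exact h2)
    have h4 : IsUnit a := isUnit_of_map_unit (algebraMap O O₁) a h3
    obtain ⟨u, rfl⟩ := h4
    refine ⟨((u⁻¹ : Oˣ) : O), ?_⟩
    have h5 : algebraMap O K ((u⁻¹ : Oˣ) : O) * algebraMap O K u = 1 := by rw [← map_mul]; simp
    rw [ha] at h5
    exact (mul_inv_eq_one₀ hk0).mp h5

/-- **Descent of points** -/
theorem exists_of_dvr (O K O₁ L : Type u) [CommRing O] [IsDomain O] [IsDiscreteValuationRing O] [Field K]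
    [Algebra O K] [IsFractionRing O K] [CommRing O₁] [Field L] [Algebra O O₁] [Algebra O₁ L]
    [Algebra K L] [Algebra O L] [IsScalarTower O K L] [IsScalarTower O O₁ L]
    [IsLocalHom (algebraMap O O₁)] (hinj : Function.Injective (algebraMap O₁ L)) {G : Scheme.{u}} [IsAffine G]
    (x : Spec (CommRingCat.of K) ⟶ G) (y : Spec (CommRingCat.of O₁) ⟶ G)
    (h : Spec.map (CommRingCat.ofHom (algebraMap K L)) ≫ x = Spec.map (CommRingCat.ofHom (algebraMap O₁ L)) ≫ y) :
    ∃ x' : Spec (CommRingCat.of O) ⟶ G, Spec.map (CommRingCat.ofHom (algebraMap O K)) ≫ x' = x := by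
  let A := Γ(G, ⊤)
  let α : A ⟶ CommRingCat.of K := Spec.preimage (x ≫ G.isoSpec.hom)
  let β : A ⟶ CommRingCat.of O₁ := Spec.preimage (y ≫ G.isoSpec.hom)
  have hα : Spec.map α = x ≫ G.isoSpec.hom := Spec.map_preimage _
  have hβ : Spec.map β = y ≫ G.isoSpec.hom := Spec.map_preimage _
  have h1 : α ≫ CommRingCat.ofHom (algebraMap K L) = β ≫ CommRingCat.ofHom (algebraMap O₁ L) := by
    apply Spec.map_injective
    rw [Spec.map_comp, Spec.map_comp, hα, hβ, ← Category.assoc, h, Category.assoc]
  have hr : ∀ a : A, α.hom a ∈ (algebraMap O K).range := by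
    intro a
    exact mem_range_of_dvr O K O₁ L hinj _ ⟨β.hom a, congrArg (fun k => k.hom a) h1.symm⟩
  have hO := IsFractionRing.injective O K
  let e : O ≃+* (algebraMap O K).range := RingEquiv.ofBijective (algebraMap O K).rangeRestrict
    ⟨fun a b hab => hO (congrArg Subtype.val hab), (algebraMap O K).rangeRestrict_surjective⟩
  let α' : A →+* O := (e.symm : _ →+* O).comp (α.hom.codRestrict _ hr)
  have hα' : (algebraMap O K).comp α' = α.hom := by
    ext a
    have h2 : e (α' a) = α.hom.codRestrict _ hr a := RingEquiv.apply_symm_apply e _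
    exact congrArg Subtype.val h2
  refine ⟨Spec.map (CommRingCat.ofHom α') ≫ G.isoSpec.inv, ?_⟩
  rw [← Category.assoc, ← Spec.map_comp, ← CommRingCat.ofHom_comp, hα']
  change Spec.map α ≫ _ = _
  rw [hα, Category.assoc, Iso.hom_inv_id, Category.comp_id]

end Groth.Agent.Sga3.H779.ExtDvr
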