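import Groth.Agent.Sga3B.IsomLocalFinal
import Groth.Agent.Sga3B.IsomLocal2
import Groth.Agent.S2962

/-!
# Automorphisms of a pinned group which are inner somewhere are inner locally

`G` pinned over `S`, `ψ` an automorphism of `G` which over some `X ⟶ S` is the inner automorphism defined by
`x ∈ G(X)`. Then every `s ∈ S` such that `X ×_S V ≠ ∅` for every flat `V ⟶ S` of finite presentation through `s` has
such a `V` on which `ψ = int(g)`, and `x = g t` over `X ×_S V` with `t` a central point of the torus.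
-/

set_option autoImplicit false
open CategoryTheory MonoidalCategory CartesianMonoidalCategory MonObj GrpObj AlgebraicGeometry
universe u

namespace Groth.Agent.Sga3.H779.ExtInner

open Groth.Agent.Sga3B Groth.Agent.Sga3B.IsomLocal Groth.Agent.Sga3B.IsomDefs

variable {S : Scheme.{u}} {G : Over S} [GrpObj G]

/-- the identity equivalence -/
def baseId (D : Red.Pinning G) : BaseEquiv D D := ⟨RootPairing.Equiv.id D.P, fun _ => Iff.rfl⟩

lemma feProp_id (D : Red.Pinning G) : FeProp D D (baseId D) (Iso.refl (Grp.mk G)) := by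
  constructor
  · intro X t
    have h1 : Red.DSmap S (baseId D).1.weightMap.toAddMonoidHom = 𝟙 _ := by
      rw [← BorSpan613.DSmap_id]
      rfl
    rw [h1, Category.comp_id]
    exact Category.comp_id _
  · intro a' ha'
    exact Category.comp_id _

theorem exists_inner [Nonempty S] (D : Red.Pinning G) (ψ : Grp.mk G ≅ Grp.mk G) (X : Over S) (x : X ⟶ G)
    (hx : ∀ (X' : Over S) (x' : X' ⟶ X) (y : X' ⟶ G), y ≫ ψ.hom.hom.hom = (x' ≫ x) * y * (x' ≫ x)⁻¹) (s : S)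
    (hne : ∀ (V : Over S), Flat V.hom → LocallyOfFinitePresentation V.hom → s ∈ Set.range V.hom →
      Nonempty (X ⊗ V : Over S).left) :
    ∃ (V : Over S) (_ : Flat V.hom) (_ : LocallyOfFinitePresentation V.hom) (_ : s ∈ Set.range V.hom)
      (g : V ⟶ G),
      ∀ (X' : Over S) (v : X' ⟶ V) (x' : X' ⟶ X), ∃ t : X' ⟶ D.T, x' ≫ x = (v ≫ g) * (t ≫ D.i) := by
  classical
  have hex : ∀ e : BaseEquiv D D, ∃ f : Grp.mk G ≅ Grp.mk G, FeProp D D e f ∧ (e = baseId D → f = Iso.refl _) := by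
    intro e
    by_cases h : e = baseId D
    · refine ⟨Iso.refl _, ?_, fun _ => rfl⟩
      rw [h]
      exact feProp_id D
    · obtain ⟨f, hf⟩ := IsomLocal2.exists_fe D D e
      exact ⟨f, hf, fun h' => absurd h' h⟩
  choose f hf hf1 using hex
  have hψ : AutFam.IsIsoFamily G G (fst G (𝟙_ (Over S)) ≫ ψ.hom.hom.hom) := isIsoFamily_const ψ
  obtain ⟨V, v, hv1, hv2, hv3, e, g, hg⟩ := h1_of D D (IsomHa505.haStmt D.toSplitRed D.toSplitRed)
    (ChartFam.hbStmt D.toSplitRed D.toSplitRed) (IsomHd848.hdStmt D D)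
    (IsomHe832.heStmt_of_models D (fun R _ s => PinModelOf.nonempty_pinModel D R s)) f hf (𝟙_ (Over S)) _ hψ s
  have hV : v.left = V.hom := by
    have := Over.w v
    simpa using this
  rw [hV] at hv1 hv2 hv3
  have hg' : ∀ (X' : Over S) (x' : X' ⟶ V) (y : X' ⟶ G),
      y ≫ ψ.hom.hom.hom = (x' ≫ g) * (y ≫ (f e).hom.hom.hom) * (x' ≫ g)⁻¹ := by
    intro X' x' y
    rw [← hg X' x' y, ← Category.assoc, lift_fst]
  -- `e` is the identity
  have he : baseId D = e := by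
    refine h0_of D D (SplitCmp588.h0Stmt D.toSplitRed) f hf (baseId D) e (X ⊗ V) (hne V hv1 hv2 hv3)
      ((snd X V ≫ g)⁻¹ * (fst X V ≫ x)) ?_
    intro X' p y
    have e1 := hg' X' (p ≫ snd X V) y
    have e2 := hx X' (p ≫ fst X V) y
    have e3 : (f (baseId D)).hom.hom.hom = 𝟙 G := by rw [hf1 _ rfl]; rfl
    rw [e3, Category.comp_id, MonObj.comp_mul, GrpObj.comp_inv]
    rw [e2] at e1
    simp only [Category.assoc] at e1
    have e4 : y ≫ (f e).hom.hom.hom = (p ≫ snd X V ≫ g)⁻¹ * ((p ≫ fst X V ≫ x) * y * (p ≫ fst X V ≫ x)⁻¹) *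
        (p ≫ snd X V ≫ g) := by
      rw [e1]
      group
    rw [e4]
    group
  have e5 : ∀ (X' : Over S) (x' : X' ⟶ V) (y : X' ⟶ G), y ≫ ψ.hom.hom.hom = (x' ≫ g) * y * (x' ≫ g)⁻¹ := by
    intro X' x' y
    have e3 : (f e).hom.hom.hom = 𝟙 G := by rw [hf1 _ he.symm]; rfl
    rw [hg', e3, Category.comp_id]
  refine ⟨V, hv1, hv2, hv3, g, ?_⟩
  intro X' v' x'
  obtain ⟨t, ht, -⟩ := (Groth.Agent.S2962.result D.toSplitRed X' ((v' ≫ g)⁻¹ * (x' ≫ x))).mp (by
    intro X'' p y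
    have e6 := e5 X'' (p ≫ v') y
    rw [hx X'' (p ≫ x') y] at e6
    simp only [Category.assoc] at e6
    rw [MonObj.comp_mul, GrpObj.comp_inv]
    have e7 : (p ≫ v' ≫ g)⁻¹ * ((p ≫ x' ≫ x) * y * (p ≫ x' ≫ x)⁻¹) * (p ≫ v' ≫ g) = y := by
      rw [e6]
      group
    calc (p ≫ v' ≫ g)⁻¹ * (p ≫ x' ≫ x) * y
        = ((p ≫ v' ≫ g)⁻¹ * ((p ≫ x' ≫ x) * y * (p ≫ x' ≫ x)⁻¹) * (p ≫ v' ≫ g)) *
          ((p ≫ v' ≫ g)⁻¹ * (p ≫ x' ≫ x)) := by group
      _ = y * ((p ≫ v' ≫ g)⁻¹ * (p ≫ x' ≫ x)) := by rw [e7])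
  refine ⟨t, ?_⟩
  rw [ht]
  group

end Groth.Agent.Sga3.H779.ExtInner
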