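import Mathlib

/-!
# Affine schemes integrally closed in another scheme
-/

set_option autoImplicit false
open CategoryTheory AlgebraicGeometry Limits
universe u

namespace Groth.Agent.Sga3.H779.ExtNorm

/-- If `Y` is affine and `Γ(Y)` is integrally closed in `Γ(X)` then `Y` is its own normalization in `X`. -/
theorem isIso_fromNormalization {X Y : Scheme.{u}} [IsAffine Y] (f : X ⟶ Y) [QuasiCompact f] [QuasiSeparated f]
    (h1 : Function.Injective f.appTop.hom)
    (h2 : ∀ b : Γ(X, ⊤), f.appTop.hom.IsIntegralElem b → ∃ a, f.appTop.hom a = b) :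
    IsIso f.fromNormalization := by
  have hU : IsAffineOpen (⊤ : Y.Opens) := isAffineOpen_top Y
  let := (f.app ⊤).hom.toAlgebra
  have hb : Function.Bijective (algebraMap Γ(Y, ⊤) (integralClosure Γ(Y, ⊤) Γ(X, f ⁻¹ᵁ ⊤))) := by
    constructor
    · intro a b hab
      exact h1 (congrArg Subtype.val hab)
    · intro b
      obtain ⟨a, ha⟩ := h2 b.1 b.2
      exact ⟨a, Subtype.ext ha⟩
  have h3 : IsIso (CommRingCat.ofHom (algebraMap Γ(Y, ⊤) (integralClosure Γ(Y, ⊤) Γ(X, f ⁻¹ᵁ ⊤)))) :=
    (ConcreteCategory.isIso_iff_bijective _).mpr hb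
  have h4 : IsIso (f.fromNormalization.app ⊤) := by
    rw [Scheme.Hom.fromNormalization_app f hU]
    infer_instance
  have : IsAffine f.normalization := isAffine_of_isAffineHom f.fromNormalization
  exact (HasAffineProperty.iff_of_isAffine (P := MorphismProperty.isomorphisms Scheme.{u})).mpr
    ⟨inferInstance, h4⟩

/-- ring version -/
theorem isIso_fromNormalization_spec (A B : Type u) [CommRing A] [CommRing B] [Algebra A B]
    [IsIntegrallyClosedIn A B] :
    IsIso (Spec.map (CommRingCat.ofHom (algebraMap A B))).fromNormalization := by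
  let φ := CommRingCat.ofHom (algebraMap A B)
  have hnat : φ ≫ (Scheme.ΓSpecIso (CommRingCat.of B)).inv =
      (Scheme.ΓSpecIso (CommRingCat.of A)).inv ≫ (Spec.map φ).appTop := Scheme.ΓSpecIso_inv_naturality φ
  have hinj : Function.Injective (algebraMap A B) := IsIntegralClosure.algebraMap_injective A A B
  have key : (Spec.map φ).appTop = (Scheme.ΓSpecIso (CommRingCat.of A)).hom ≫ φ ≫
      (Scheme.ΓSpecIso (CommRingCat.of B)).inv := by
    rw [hnat, Iso.hom_inv_id_assoc]
  apply isIso_fromNormalization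
  · change Function.Injective (Spec.map φ).appTop.hom
    rw [key]
    intro a b hab
    have h1 := hinj ((ConcreteCategory.bijective_of_isIso (Scheme.ΓSpecIso (CommRingCat.of B)).inv).1 hab)
    exact (ConcreteCategory.bijective_of_isIso (Scheme.ΓSpecIso (CommRingCat.of A)).hom).1 h1
  · intro b hb
    change (Spec.map φ).appTop.hom.IsIntegralElem b at hb
    change ∃ a, (Spec.map φ).appTop.hom a = b
    rw [key] at hb ⊢
    -- transport to `B`
    obtain ⟨p, hp, hpb⟩ := hb
    let b' : B := (Scheme.ΓSpecIso (CommRingCat.of B)).hom.hom b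
    have hb' : IsIntegral A b' := by
      refine ⟨p.map (Scheme.ΓSpecIso (CommRingCat.of A)).hom.hom, hp.map _, ?_⟩
      rw [Polynomial.eval₂_map]
      have h1 := congrArg (Scheme.ΓSpecIso (CommRingCat.of B)).hom.hom hpb
      rw [Polynomial.hom_eval₂, map_zero] at h1
      have h2 : ((Scheme.ΓSpecIso (CommRingCat.of B)).hom.hom.comp
          ((Scheme.ΓSpecIso (CommRingCat.of A)).hom ≫ φ ≫ (Scheme.ΓSpecIso (CommRingCat.of B)).inv).hom) =
          (algebraMap A B).comp (Scheme.ΓSpecIso (CommRingCat.of A)).hom.hom := by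
        have : ((Scheme.ΓSpecIso (CommRingCat.of A)).hom ≫ φ ≫ (Scheme.ΓSpecIso (CommRingCat.of B)).inv) ≫
            (Scheme.ΓSpecIso (CommRingCat.of B)).hom = (Scheme.ΓSpecIso (CommRingCat.of A)).hom ≫ φ := by
          simp
        exact congrArg CommRingCat.Hom.hom this
      rw [h2] at h1
      exact h1
    obtain ⟨a, ha⟩ := IsIntegrallyClosedIn.algebraMap_eq_of_integral hb'
    refine ⟨(Scheme.ΓSpecIso (CommRingCat.of A)).inv.hom a, ?_⟩
    have h3 : ((Scheme.ΓSpecIso (CommRingCat.of A)).hom ≫ φ ≫ (Scheme.ΓSpecIso (CommRingCat.of B)).inv).hom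
        ((Scheme.ΓSpecIso (CommRingCat.of A)).inv.hom a) =
        (Scheme.ΓSpecIso (CommRingCat.of B)).inv.hom (algebraMap A B a) := by
      have : (Scheme.ΓSpecIso (CommRingCat.of A)).inv ≫ ((Scheme.ΓSpecIso (CommRingCat.of A)).hom ≫ φ ≫
          (Scheme.ΓSpecIso (CommRingCat.of B)).inv) = φ ≫ (Scheme.ΓSpecIso (CommRingCat.of B)).inv := by
        simp
      exact congrArg (fun k => k.hom a) this
    rw [h3, ha]
    exact congrArg (fun k => k.hom b) (Scheme.ΓSpecIso (CommRingCat.of B)).hom_inv_id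

end Groth.Agent.Sga3.H779.ExtNorm
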