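import Groth.Agent.Sga3.H779.ExtTorus
import Groth.Agent.Sga3.H779.ExtInner
import Groth.Agent.Sga3.H779.ExtConj
import Groth.Agent.Sga3.H779.ExtNorm
import Groth.Agent.Sga3.H779.ExtDvr
import Groth.Agent.Ega43.DvrScheme
import Groth.Agent.S2958
import Groth.Agent.Sga3B.IsomPin848
import Groth.Agent.Sga3B.SplitRedField415
import Groth.Agent.Sga3B.IsoFam
import Groth.Agent.Sga3B.AffineDimOne

/-!
# Integral points of reductive groups and quasi-finite homomorphisms

`O` a DVR with fraction field `K`, `G` a reductive group over `O`, `f : G ⟶ H` a locally quasi-finite homomorphism to an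
affine group of finite type. A `K`-point `x` of `G` with `f(x) ∈ H(O)` is an `O`-point.
-/

set_option autoImplicit false
open CategoryTheory MonoidalCategory CartesianMonoidalCategory MonObj GrpObj AlgebraicGeometry Limits
universe u

namespace Groth.Agent.Sga3.H779.ExtMain

open Groth.Agent.Sga3B Groth.Agent.Sga3B.DSAffPts Groth.Agent.Sga3B.FreeBC Groth.Agent.Sga3B.BcPts

section base

variable {S S' : Scheme.{u}} (v : S' ⟶ S) {G : Over S} [GrpObj G]

/-- base change of "`ψ` is inner over `X`" -/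
theorem conj_bc (ψ : G ⟶ G) {X : Over S} (x : X ⟶ G)
    (hψ : ∀ (T : Over S) (t : T ⟶ X) (y : T ⟶ G), y ≫ ψ = (t ≫ x) * y * (t ≫ x)⁻¹)
    (T : Over S') (t : T ⟶ Red.bc v X) (y : T ⟶ Red.bc v G) :
    y ≫ (Over.pullback v).map ψ = (t ≫ (Over.pullback v).map x) * y * (t ≫ (Over.pullback v).map x)⁻¹ := by
  apply (bcMulEquiv v T G).symm.injective
  rw [map_mul, map_mul, map_inv]
  change (bcEquiv v T G).symm _ = (bcEquiv v T G).symm _ * (bcEquiv v T G).symm _ * ((bcEquiv v T G).symm _)⁻¹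
  rw [bcEquiv_symm_comp, bcEquiv_symm_comp]
  exact hψ _ _ _

theorem locallyQuasiFinite_bc {G H : Over S} (f : G ⟶ H) [LocallyQuasiFinite f.left] :
    LocallyQuasiFinite ((Over.pullback v).map f).left := by
  have hpb := AffineDimOne.isPullback_lift f.left H.hom G.hom (Over.w f) v
  have e : ((Over.pullback v).map f).left = pullback.lift
      (pullback.fst G.hom v ≫ f.left) (pullback.snd G.hom v)
      (by rw [Category.assoc, Over.w, pullback.condition]) := by
    simp
  rw [← e] at hpb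
  exact MorphismProperty.of_isPullback hpb.flip ‹_›

end base

section auto

variable {S : Scheme.{u}} (ξ : Over S) [QuasiCompact ξ.hom] [QuasiSeparated ξ.hom] [IsIso ξ.hom.fromNormalization]
  {G H : Over S} [GrpObj G] [GrpObj H]

/-- the automorphism of `G` extending `int(x)` -/
theorem exists_auto [Smooth G.hom] [IsSeparated G.hom] [QuasiCompact G.hom]
    (hconn : ∀ s : S, _root_.IsConnected (G.hom.base ⁻¹' {s})) [LocallyOfFiniteType H.hom] [IsSeparated H.hom]
    (f : G ⟶ H) [IsMonHom f] [LocallyQuasiFinite f.left] (x : ξ ⟶ G) (h : 𝟙_ (Over S) ⟶ H)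
    (hx : x ≫ f = toUnit ξ ≫ h) :
    ∃ ψ : G ≅ G, IsMonHom ψ.hom ∧ ∀ (X : Over S) (t : X ⟶ ξ) (y : X ⟶ G),
      y ≫ ψ.hom = (t ≫ x) * y * (t ≫ x)⁻¹ := by
  obtain ⟨ψ, h1, h2⟩ := ExtConj.exists_extend ξ hconn f x h hx
  obtain ⟨ψ', h1', h2'⟩ := ExtConj.exists_extend ξ hconn f x⁻¹ h⁻¹ (by
    rw [GrpObj.inv_comp, hx, GrpObj.comp_inv])
  have : IsSeparated (toUnit G : G ⟶ 𝟙_ (Over S)).left := by
    have : (toUnit G : G ⟶ 𝟙_ (Over S)).left = G.hom := Over.toUnit_left
    rw [this]
    infer_instance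
  refine ⟨⟨ψ, ψ', ?_, ?_⟩, h1, h2⟩
  · refine ExtConj.hom_ext ξ (toUnit G) _ _ (toUnit_unique _ _) ?_
    rw [← Category.assoc, h2' _ (fst ξ G), h2 _ (fst ξ G), GrpObj.comp_inv, Category.comp_id]
    group
  · refine ExtConj.hom_ext ξ (toUnit G) _ _ (toUnit_unique _ _) ?_
    rw [← Category.assoc, h2 _ (fst ξ G), h2' _ (fst ξ G), GrpObj.comp_inv, Category.comp_id]
    group

end auto

section step

variable (O K B O₁ L : Type u) [CommRing O] [IsDomain O] [IsDiscreteValuationRing O] [Field K] [Algebra O K]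
  [IsFractionRing O K] [CommRing B] [Algebra O B] [CommRing O₁] [IsDomain O₁] [IsDiscreteValuationRing O₁]
  [Field L] [Algebra B O₁] [Algebra O O₁] [IsScalarTower O B O₁] [Algebra O₁ L] [IsFractionRing O₁ L]
  [Algebra B L] [IsScalarTower B O₁ L] [Algebra O L] [IsScalarTower O O₁ L] [Algebra K L] [IsScalarTower O K L]

/-- the structure morphism `Spec B ⟶ Spec O` -/
noncomputable abbrev vOB : Spec (CommRingCat.of B) ⟶ Spec (CommRingCat.of O) :=
  Spec.map (CommRingCat.ofHom (algebraMap O B))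

/-- `Spec L ⟶ Spec K` over `Spec O` -/
noncomputable def spKL : (Over.map (vOB O B)).obj (DE B L) ⟶ DE O K :=
  Over.homMk (Spec.map (CommRingCat.ofHom (algebraMap K L))) (by
    change Spec.map (CommRingCat.ofHom (algebraMap K L)) ≫ Spec.map (CommRingCat.ofHom (algebraMap O K)) =
      Spec.map (CommRingCat.ofHom (algebraMap B L)) ≫ Spec.map (CommRingCat.ofHom (algebraMap O B))
    rw [← Spec.map_comp, ← Spec.map_comp, ← CommRingCat.ofHom_comp, ← CommRingCat.ofHom_comp]
    congr 2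
    ext a
    change algebraMap K L (algebraMap O K a) = algebraMap B L (algebraMap O B a)
    rw [← IsScalarTower.algebraMap_apply, IsScalarTower.algebraMap_apply B O₁ L,
      ← IsScalarTower.algebraMap_apply O B O₁, ← IsScalarTower.algebraMap_apply])

theorem step {G H : Over (Spec (CommRingCat.of O))} [GrpObj G] [GrpObj H] [IsAffine H.left]
    [IsSeparated G.hom]
    (f : G ⟶ H) [IsMonHom f] [LocallyQuasiFinite f.left] (x : DE O K ⟶ G)
    (h : 𝟙_ (Over (Spec (CommRingCat.of O))) ⟶ H) (hx : x ≫ f = toUnit _ ≫ h)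
    (D : Red.Pinning (Red.bc (vOB O B) G)) (g : DE B O₁ ⟶ Red.bc (vOB O B) G) (t : DE B L ⟶ D.T)
    (ht : bcEquiv (vOB O B) _ _ (spKL O K B O₁ L ≫ x) =
      (sp (IsScalarTower.toAlgHom B O₁ L) ≫ g) * (t ≫ D.i)) :
    ∃ y : (Over.map (vOB O B)).obj (DE B O₁) ⟶ G,
      (Over.map (vOB O B)).map (sp (IsScalarTower.toAlgHom B O₁ L)) ≫ y = spKL O K B O₁ L ≫ x := by
  let v := vOB O B
  let io := sp (IsScalarTower.toAlgHom B O₁ L)
  let fB : Red.bc v G ⟶ Red.bc v H := (Over.pullback v).map f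
  have hfB : IsMonHom fB := by
    change IsMonHom ((Over.pullback v).map f)
    infer_instance
  have hDi : IsMonHom D.i := D.maximalTorus.1
  have hDm : Mono D.i := D.maximalTorus.2.1
  let j : Red.DS (Spec (CommRingCat.of B)) D.M ⟶ Red.bc v H := D.split.inv.hom.hom ≫ D.i ≫ fB
  have hj : IsMonHom j := by
    have : IsMonHom D.split.inv.hom.hom := inferInstance
    change IsMonHom (D.split.inv.hom.hom ≫ D.i ≫ fB)
    infer_instance
  have hHB : IsAffine (Red.bc v H).left := by
    change IsAffine (pullback H.hom v)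
    infer_instance
  have hfq : LocallyQuasiFinite fB.left := locallyQuasiFinite_bc v f
  have hDc : IsClosedImmersion D.i.left := AdCentre.isClosedImmersion_torus D.toSplitRed
  have hjq : LocallyQuasiFinite j.left := by
    change LocallyQuasiFinite (D.split.inv.hom.hom ≫ D.i ≫ fB).left
    rw [Over.comp_left, Over.comp_left]
    infer_instance
  let z : DE B L ⟶ Red.DS (Spec (CommRingCat.of B)) D.M := t ≫ D.split.hom.hom.hom
  have hss : D.split.hom.hom.hom ≫ D.split.inv.hom.hom = 𝟙 _ := congrArg (fun k => k.hom.hom) D.split.hom_inv_id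
  let hB : DE B O₁ ⟶ Red.bc v H := (g ≫ fB)⁻¹ * bcEquiv v _ _ (toUnit _ ≫ h)
  have hzj : z ≫ j = io ≫ hB := by
    have e1 : z ≫ j = (t ≫ D.i) ≫ fB := by
      change (t ≫ D.split.hom.hom.hom) ≫ D.split.inv.hom.hom ≫ D.i ≫ fB = _
      rw [Category.assoc, ← Category.assoc D.split.hom.hom.hom, hss, Category.id_comp, Category.assoc]
    have e2 : t ≫ D.i = (io ≫ g)⁻¹ * bcEquiv v _ _ (spKL O K B O₁ L ≫ x) := by
      rw [ht]
      exact (inv_mul_cancel_left _ _).symm
    have e3 : bcEquiv v _ _ (spKL O K B O₁ L ≫ x) ≫ fB = io ≫ bcEquiv v _ _ (toUnit _ ≫ h) := by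
      rw [← comp_bcEquiv, ← bcEquiv_comp, Category.assoc, hx, ← Category.assoc, ← Category.assoc]
      congr 2
      exact toUnit_unique _ _
    rw [e1, e2, MonObj.mul_comp, GrpObj.inv_comp, e3, MonObj.comp_mul, GrpObj.comp_inv, Category.assoc]
  obtain ⟨z', hz'⟩ := ExtTorus.exists_pt O₁ L (R := B) j z hB hzj
  let yB : DE B O₁ ⟶ Red.bc v G := g * (z' ≫ D.split.inv.hom.hom ≫ D.i)
  have hyB : io ≫ yB = bcEquiv v _ _ (spKL O K B O₁ L ≫ x) := by
    rw [ht, MonObj.comp_mul]
    congr 1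
    rw [← Category.assoc, hz', Category.assoc, ← Category.assoc D.split.hom.hom.hom, hss, Category.id_comp]
  refine ⟨(bcEquiv v _ _).symm yB, ?_⟩
  rw [← comp_bcEquiv_symm, hyB, Equiv.symm_apply_apply]

end step

section main

variable (O K : Type u) [CommRing O] [IsDomain O] [IsDiscreteValuationRing O] [Field K] [Algebra O K]
  [IsFractionRing O K]

/-- the generic point of the spectrum of a domain -/
noncomputable def gpt : Spec (CommRingCat.of O) := (⊥ : PrimeSpectrum O)

omit [IsDiscreteValuationRing O] in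
lemma gpt_specializes (s : Spec (CommRingCat.of O)) : gpt O ⤳ s := by
  change (⊥ : PrimeSpectrum O) ⤳ (s : PrimeSpectrum O)
  exact (PrimeSpectrum.le_iff_specializes _ _).mp bot_le

omit [IsDiscreteValuationRing O] in
lemma specMap_eq_gpt (pt : Spec (CommRingCat.of K)) :
    Spec.map (CommRingCat.ofHom (algebraMap O K)) pt = gpt O := by
  apply PrimeSpectrum.ext
  change (pt : PrimeSpectrum K).asIdeal.comap (algebraMap O K) = ⊥
  have h1 : (pt : PrimeSpectrum K).asIdeal = ⊥ := by
    have := (pt : PrimeSpectrum K).isPrime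
    exact Ideal.eq_bot_of_prime _
  rw [h1]
  exact (RingHom.injective_iff_ker_eq_bot _).mp (IsFractionRing.injective O K)

theorem exists_point_aux (B : Type u) [CommRing B] [Algebra O B] (hv : Flat (vOB O B))
    (hvf : LocallyOfFiniteType (vOB O B)) {G H : Over (Spec (CommRingCat.of O))} [GrpObj G] [GrpObj H]
    [IsAffine G.left] [IsAffine H.left] (f : G ⟶ H) [IsMonHom f] [LocallyQuasiFinite f.left]
    (x : DE O K ⟶ G) (h : 𝟙_ (Over (Spec (CommRingCat.of O))) ⟶ H) (hx : x ≫ f = toUnit _ ≫ h)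
    (D : Red.Pinning (Red.bc (vOB O B) G)) (ψ : G ≅ G) [IsMonHom ψ.hom]
    (hψ : ∀ (X : Over (Spec (CommRingCat.of O))) (t : X ⟶ DE O K) (y : X ⟶ G),
      y ≫ ψ.hom = (t ≫ x) * y * (t ≫ x)⁻¹)
    (sB : Spec (CommRingCat.of B)) (hsB : vOB O B sB = IsLocalRing.closedPoint O) :
    ∃ x' : Spec (CommRingCat.of O) ⟶ G.left, Spec.map (CommRingCat.ofHom (algebraMap O K)) ≫ x' = x.left := by
  let v := vOB O B
  have : IsSeparated G.hom := inferInstance
  -- points over the generic point
  have hgen : ∀ V : Over (Spec (CommRingCat.of B)), Flat V.hom → ∀ v0 : V.left, V.hom v0 = sB →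
      ∃ v1 : V.left, v1 ⤳ v0 ∧ v (V.hom v1) = gpt O := by
    intro V hV1 v0 hv0
    have hfl : Flat (V.hom ≫ v) := inferInstance
    have h1 : gpt O ⤳ (V.hom ≫ v) v0 := gpt_specializes O _
    obtain ⟨v1, h2, h3⟩ := Flat.generalizingMap (V.hom ≫ v) h1
    exact ⟨v1, h2, by rw [← Scheme.Hom.comp_apply]; exact h3⟩
  let ψB : Grp.mk (Red.bc v G) ≅ Grp.mk (Red.bc v G) := by
    have : IsMonHom ((Over.pullback v).mapIso ψ).hom := by
      change IsMonHom ((Over.pullback v).map ψ.hom)
      infer_instance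
    exact Grp.mkIso' ((Over.pullback v).mapIso ψ)
  have : Nonempty (Spec (CommRingCat.of B)) := ⟨sB⟩
  obtain ⟨V, hV1, hV2, ⟨v0, hv0⟩, g, hg⟩ := ExtInner.exists_inner D ψB (Red.bc v (DE O K))
    ((Over.pullback v).map x) (fun T t y => conj_bc v ψ.hom x hψ T t y) sB (by
      intro V hV1 hV2 ⟨v0, hv0⟩
      obtain ⟨v1, -, hv1⟩ := hgen V hV1 v0 hv0
      obtain ⟨pt⟩ : Nonempty (Spec (CommRingCat.of K)) := inferInstance
      obtain ⟨p, hp1, hp2⟩ := Scheme.Pullback.exists_preimage_pullback (f := (DE O K).hom) (g := v) pt (V.hom v1)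
        ((specMap_eq_gpt O K pt).trans hv1.symm)
      obtain ⟨p', -, -⟩ := Scheme.Pullback.exists_preimage_pullback (f := (Red.bc v (DE O K)).hom) (g := V.hom)
        p v1 hp2
      exact ⟨p'⟩)
  obtain ⟨v1, hv10, hv1⟩ := hgen V hV1 v0 hv0
  have hloc : IsLocallyNoetherian V.left :=
    LocallyOfFiniteType.isLocallyNoetherian (V.hom ≫ v)
  have hne : v1 ≠ v0 := by
    rintro rfl
    rw [hv0, hsB] at hv1
    have h1 := congrArg PrimeSpectrum.asIdeal hv1
    exact IsDiscreteValuationRing.not_a_field O h1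
  obtain ⟨O₁, k1, k2, k3, k4, k5, g1, hg1, hg2⟩ := Ega43.DvrScheme.exists_dvr_of_specializes hv10 hne
    (V.left.residueField v1) (𝟙 _) (RingHom.FiniteType.essFiniteType (RingHom.FiniteType.id _))
  let L : Type u := V.left.residueField v1
  let _ : Field L := inferInstanceAs (Field (V.left.residueField v1))
  let _ : Algebra O₁ L := k4
  have _ : IsFractionRing O₁ L := k5
  let φ1 : CommRingCat.of B ⟶ CommRingCat.of O₁ := Spec.preimage (g1 ≫ V.hom)
  have hφ1 : Spec.map φ1 = g1 ≫ V.hom := Spec.map_preimage _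
  let _ : Algebra B O₁ := φ1.hom.toAlgebra
  let _ : Algebra O O₁ := ((algebraMap B O₁).comp (algebraMap O B)).toAlgebra
  have t1 : IsScalarTower O B O₁ := .of_algebraMap_eq fun _ => rfl
  let _ : Algebra B L := ((algebraMap O₁ L).comp (algebraMap B O₁)).toAlgebra
  have t2 : IsScalarTower B O₁ L := .of_algebraMap_eq fun _ => rfl
  let _ : Algebra O L := ((algebraMap O₁ L).comp (algebraMap O O₁)).toAlgebra
  have t3 : IsScalarTower O O₁ L := .of_algebraMap_eq fun _ => rfl
  have hOO : Spec.map (CommRingCat.ofHom (algebraMap O O₁)) = g1 ≫ V.hom ≫ v := by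
    have e1 : CommRingCat.ofHom (algebraMap O O₁) = CommRingCat.ofHom (algebraMap O B) ≫ φ1 := rfl
    rw [e1, Spec.map_comp, hφ1, Category.assoc]
  have hinj : Function.Injective (algebraMap O L) := by
    rw [RingHom.injective_iff_ker_eq_bot]
    obtain ⟨pt⟩ : Nonempty (Spec (CommRingCat.of L)) := inferInstance
    have e1 : Spec.map (CommRingCat.ofHom (algebraMap O L)) =
        Spec.map (CommRingCat.ofHom (algebraMap O₁ L)) ≫ Spec.map (CommRingCat.ofHom (algebraMap O O₁)) := by
      rw [← Spec.map_comp]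
      rfl
    have e2 : Spec.map (CommRingCat.ofHom (algebraMap O₁ L)) ≫ g1 = V.left.fromSpecResidueField v1 := by
      have e3 := hg2
      rw [Spec.map_id] at e3
      exact e3.trans (Category.id_comp _)
    have e4 : Spec.map (CommRingCat.ofHom (algebraMap O L)) pt = gpt O := by
      rw [e1, hOO, ← Category.assoc, e2, Scheme.Hom.comp_apply, Scheme.fromSpecResidueField_apply,
        Scheme.Hom.comp_apply]
      exact hv1
    have e5 : (pt : PrimeSpectrum L).asIdeal.comap (algebraMap O L) = ⊥ := congrArg PrimeSpectrum.asIdeal e4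
    have h1 : (pt : PrimeSpectrum L).asIdeal = ⊥ := by
      have := (pt : PrimeSpectrum L).isPrime
      exact Ideal.eq_bot_of_prime _
    rw [h1] at e5
    exact e5
  let _ : Algebra K L := (IsFractionRing.lift hinj).toAlgebra
  have t4 : IsScalarTower O K L := .of_algebraMap_eq fun a => (IsFractionRing.lift_algebraMap hinj a).symm
  have t5 : IsLocalHom (algebraMap O O₁) := by
    rw [IsLocalRing.isLocalHom_iff_comap_closedPoint]
    have e1 : Spec.map (CommRingCat.ofHom (algebraMap O O₁)) (IsLocalRing.closedPoint O₁) =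
        IsLocalRing.closedPoint O := by
      rw [hOO, Scheme.Hom.comp_apply, hg1, Scheme.Hom.comp_apply, hv0, hsB]
    exact e1
  let vB : DE B O₁ ⟶ V := Over.homMk g1 hφ1.symm
  obtain ⟨t, ht⟩ := hg (DE B L) (sp (IsScalarTower.toAlgHom B O₁ L) ≫ vB) (bcEquiv v _ _ (spKL O K B O₁ L))
  obtain ⟨y, hy⟩ := step O K B O₁ L f x h hx D (vB ≫ g) t (by
    rw [bcEquiv_comp, ht, Category.assoc])
  exact ExtDvr.exists_of_dvr O K O₁ L (IsFractionRing.injective O₁ L) x.left y.left
    (congrArg (fun k => k.left) hy).symm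

theorem exists_point {G H : Over (Spec (CommRingCat.of O))} [GrpObj G] [GrpObj H] (hG : Red.IsReductive G)
    [IsAffine H.left] [LocallyOfFiniteType H.hom] (f : G ⟶ H) [IsMonHom f] [LocallyQuasiFinite f.left]
    (x : DE O K ⟶ G) (h : 𝟙_ (Over (Spec (CommRingCat.of O))) ⟶ H) (hx : x ≫ f = toUnit _ ≫ h) :
    ∃ x' : 𝟙_ (Over (Spec (CommRingCat.of O))) ⟶ G, toUnit _ ≫ x' = x := by
  have i1 : IsAffineHom G.hom := hG.1
  have i2 : Smooth G.hom := hG.2.1
  have i3 : IsAffine G.left := isAffine_of_isAffineHom G.hom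
  have i4 : IsAffineHom H.hom := inferInstance
  have hconn := IsoFam.isConnected_fibre_of_isReductive hG
  let ξ : Over (Spec (CommRingCat.of O)) := DE O K
  have j1 : QuasiCompact ξ.hom := inferInstanceAs (QuasiCompact (Spec.map _))
  have j2 : QuasiSeparated ξ.hom := inferInstanceAs (QuasiSeparated (Spec.map _))
  have j3 : IsIntegrallyClosedIn O K := (isIntegrallyClosed_iff_isIntegrallyClosedIn K).mp inferInstance
  have j4 : IsIso ξ.hom.fromNormalization := ExtNorm.isIso_fromNormalization_spec O K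
  obtain ⟨ψ, hψ1, hψ2⟩ := exists_auto ξ hconn f x h hx
  let s : Spec (CommRingCat.of O) := IsLocalRing.closedPoint O
  obtain ⟨B, v, hv, ⟨sB, hsB⟩, ⟨D⟩, -⟩ := IsomPin848.exists_pinning_pair (fun {S} L _ hL s => by
    obtain ⟨U, f, hf, hs, ⟨D⟩⟩ := Groth.Agent.S2958.result L hL s
    have : Nonempty U := ⟨hs.choose⟩
    exact ⟨U, f, hf, hs, D, SplitReduced415.isReduced D⟩) hG hG s
  obtain ⟨φ, rfl⟩ : ∃ φ : CommRingCat.of O ⟶ B, Spec.map φ = v := ⟨Spec.preimage v, Spec.map_preimage v⟩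
  let _ : Algebra O B := φ.hom.toAlgebra
  have hv' : Etale (vOB O B) := hv
  obtain ⟨x', hx'⟩ := exists_point_aux O K B inferInstance inferInstance f x h hx D ψ hψ2 sB hsB
  refine ⟨Over.homMk x' ?_, ?_⟩
  · -- the section property
    obtain ⟨θ, hθ⟩ : ∃ θ, Spec.map θ = x' ≫ G.hom := ⟨Spec.preimage _, Spec.map_preimage _⟩
    change x' ≫ G.hom = 𝟙 _
    rw [← hθ]
    have h1 : Spec.map (CommRingCat.ofHom (algebraMap O K)) ≫ Spec.map θ =
        Spec.map (CommRingCat.ofHom (algebraMap O K)) := by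
      rw [hθ, ← Category.assoc, hx']
      exact Over.w x
    rw [← Spec.map_comp] at h1
    have h2 := Spec.map_injective h1
    have h3 : θ = 𝟙 _ := by
      ext a
      exact IsFractionRing.injective O K (congrArg (fun k => k.hom a) h2)
    rw [h3, Spec.map_id]
  · ext1
    have : (toUnit (DE O K) : DE O K ⟶ 𝟙_ (Over (Spec (CommRingCat.of O)))).left =
      Spec.map (CommRingCat.ofHom (algebraMap O K)) := Over.toUnit_left
    rw [Over.comp_left, this]
    exact hx'

end main

end Groth.Agent.Sga3.H779.ExtMain
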