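import Groth.Agent.Sga3.H779.ExtTorusAlg
import Groth.Agent.Sga3B.DSAffPts

/-!
# Quasi-finite homomorphisms from split tori over a DVR detect integral points
-/

set_option autoImplicit false
open CategoryTheory MonoidalCategory CartesianMonoidalCategory MonObj GrpObj AlgebraicGeometry Limits
universe u

open LaurentPolynomial
open scoped TensorProduct

namespace Groth.Agent.Sga3.H779.ExtTorus

open ExtTorusAlg Groth.Agent.Sga3B.DSAffPts Groth.Agent.Sga3B.FreeBC

section alg

/-- A ring map to Laurent polynomials with constant image is not quasi-finite. -/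
theorem not_quasiFinite {O C : Type u} [CommRing O] [IsDomain O] [CommRing C] (b : C →+* O[T;T⁻¹])
    (hb : ∀ x, ∀ i : ℤ, i ≠ 0 → (b x).coeff i = 0) : ¬ b.QuasiFinite := by
  intro hqf
  let _ : Algebra C O[T;T⁻¹] := b.toAlgebra
  have : Algebra.QuasiFinite C O[T;T⁻¹] := hqf
  let ev : O[T;T⁻¹] →ₐ[O] O := AddMonoidAlgebra.lift O O ℤ 1
  have hev : ∀ x, b x = LaurentPolynomial.C ((b x).coeff 0) := by
    intro x
    apply LaurentPolynomial.ext
    intro i
    rw [LaurentPolynomial.C_apply]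
    split_ifs with h
    · rw [h]
    · exact hb x i h
  let P : Ideal O[T;T⁻¹] := ⊥
  let Q : Ideal O[T;T⁻¹] := RingHom.ker ev
  have hP : P.IsPrime := Ideal.isPrime_bot
  have hQ : Q.IsPrime := RingHom.ker_isPrime ev
  have hevC : ∀ a : O, ev (LaurentPolynomial.C a) = a := by
    intro a
    exact ev.commutes a
  have hevT : ev (T 1) = 1 := by
    change AddMonoidAlgebra.lift O O ℤ 1 (AddMonoidAlgebra.single 1 1) = 1
    rw [AddMonoidAlgebra.lift_single]
    simp
  have hu : P.under C = Q.under C := by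
    ext x
    change b x = 0 ↔ ev (b x) = 0
    rw [hev x, hevC]
    constructor
    · intro h
      have h' := congrArg ev h
      rw [hevC, map_zero ev] at h'
      exact h'
    · intro h
      rw [h, map_zero]
  have h1 := Algebra.QuasiFinite.eq_of_le_of_under_eq (R := C) P Q bot_le hu
  have h2 : (T 1 - 1 : O[T;T⁻¹]) ∈ Q := by
    change ev (T 1 - 1) = 0
    rw [map_sub, hevT, map_one, sub_self]
  rw [← h1] at h2
  have h3 : (T 1 : O[T;T⁻¹]) = T 0 := by
    rw [T_zero]
    exact sub_eq_zero.mp h2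
  have h4 : (T 1 : O[T;T⁻¹]).coeff 1 = (T 0 : O[T;T⁻¹]).coeff 1 := by rw [h3]
  rw [T_apply, T_apply, if_pos rfl, if_neg (by norm_num)] at h4
  exact one_ne_zero h4

end alg

section scheme

variable {O : Type u} [CommRing O] (M : Type) [AddCommGroup M]

/-- `Spec O[M]` is `D(M)` over `Spec O`. -/
theorem exists_iso_ds : ∃ w : DE O (MonoidAlgebra O (Multiplicative M)) ≅ Red.DS (Spec (CommRingCat.of O)) M,
    w.hom = dsPt M _ (MonoidAlgebra.of O (Multiplicative M)) := by
  let w : DE O (MonoidAlgebra O (Multiplicative M)) ⟶ Red.DS (Spec (CommRingCat.of O)) M :=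
    dsPt M _ (MonoidAlgebra.of O (Multiplicative M))
  have : IsAffine (Red.DS (Spec (CommRingCat.of O)) M).left := by
    have : IsAffine (Red.diag (ULift.{u} ℤ) M).left := inferInstanceAs (IsAffine (Spec _))
    exact inferInstanceAs (IsAffine (pullback (Red.diag (ULift.{u, 0} ℤ) M).hom
      (specULiftZIsTerminal.from (Spec (CommRingCat.of O)))))
  obtain ⟨R, _, _, ⟨e⟩⟩ := exists_iso_DE (Red.DS (Spec (CommRingCat.of O)) M)
  let θ : Multiplicative M →* R := (dsPt M R).symm e.hom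
  have hθ : dsPt (K := O) M R θ = e.hom := MulEquiv.apply_symm_apply _ _
  let ψ : MonoidAlgebra O (Multiplicative M) →ₐ[O] R := MonoidAlgebra.lift O R (Multiplicative M) θ
  have hψ : sp ψ ≫ w = e.hom := by
    rw [sp_dsPt, ← hθ]
    congr 1
    ext m
    simp [ψ]
  obtain ⟨ρ, hρ⟩ := exists_sp (w ≫ e.inv)
  have h1 : sp ψ ≫ sp ρ = 𝟙 _ := by rw [hρ, ← Category.assoc, hψ, Iso.hom_inv_id]
  have h2 : sp ρ ≫ sp ψ = 𝟙 _ := by
    have h3 : (sp ρ ≫ sp ψ) ≫ w = w := by
      rw [Category.assoc, hψ, hρ, Category.assoc, Iso.inv_hom_id, Category.comp_id]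
    rw [sp_comp] at h3 ⊢
    have h4 : sp (ρ.comp ψ) ≫ w = dsPt M _ ((ρ.comp ψ).toMonoidHom.comp (MonoidAlgebra.of O (Multiplicative M))) :=
      sp_dsPt M _ _
    rw [h4] at h3
    have h5 := (dsPt (K := O) M (MonoidAlgebra O (Multiplicative M))).injective h3
    have h6 : ρ.comp ψ = AlgHom.id O _ := by
      apply MonoidAlgebra.algHom_ext'
      · exact h5
      · exact Subsingleton.elim _ _
    rw [h6, sp_id]
  refine ⟨⟨w, e.inv ≫ sp ψ, ?_, ?_⟩, rfl⟩
  · rw [← Category.assoc, ← hρ, h2]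
  · rw [Category.assoc, hψ, Iso.inv_hom_id]

end scheme

section main

variable (O K : Type u) [CommRing O] [IsDomain O] [IsDiscreteValuationRing O] [Field K] [Algebra O K]
  [IsFractionRing O K]

lemma zpow_of_add {G : Type*} [Group G] (f : ℤ → G) (h : ∀ a b, f (a + b) = f a * f b) (n : ℤ) :
    f 1 ^ n = f n := by
  let F : Multiplicative ℤ →* G := MonoidHom.mk' (fun n => f n.toAdd) (fun a b => h _ _)
  have e := MonoidHom.map_zpow F (Multiplicative.ofAdd (1 : ℤ)) n
  rw [← ofAdd_zsmul, smul_eq_mul, _root_.mul_one] at e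
  exact e.symm

/-- a nonzero homomorphism to `ℤ` is a multiple of a surjective one -/
theorem exists_primitive {M : Type} [AddCommGroup M] (lam : M →+ ℤ) (h : lam ≠ 0) :
    ∃ (d : ℤ) (lam' : M →+ ℤ), d ≠ 0 ∧ (∀ m, lam m = d * lam' m) ∧ ∃ m, lam' m = 1 := by
  obtain ⟨d, hd⟩ := Int.subgroup_cyclic lam.range
  have hd0 : d ≠ 0 := by
    rintro rfl
    apply h
    ext m
    have : lam m ∈ lam.range := ⟨m, rfl⟩
    rw [hd, ← AddSubgroup.zmultiples_eq_closure, AddSubgroup.mem_zmultiples_iff] at this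
    obtain ⟨k, hk⟩ := this
    rw [← hk, smul_zero]
    rfl
  have hdvd : ∀ m, ∃ k, lam m = d * k := by
    intro m
    have : lam m ∈ lam.range := ⟨m, rfl⟩
    rw [hd, ← AddSubgroup.zmultiples_eq_closure, AddSubgroup.mem_zmultiples_iff] at this
    obtain ⟨k, hk⟩ := this
    exact ⟨k, by rw [← hk, smul_eq_mul, _root_.mul_comm]⟩
  choose k hk using hdvd
  have hmem : d ∈ lam.range := by
    rw [hd, ← AddSubgroup.zmultiples_eq_closure]
    exact AddSubgroup.mem_zmultiples d
  obtain ⟨m1, hm1⟩ := hmem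
  refine ⟨d, ⟨⟨k, ?_⟩, ?_⟩, hd0, hk, m1, ?_⟩
  · apply mul_left_cancel₀ hd0
    rw [← hk, map_zero, mul_zero]
  · intro x y
    apply mul_left_cancel₀ hd0
    change d * k (x + y) = d * (k x + k y)
    rw [← hk, map_add, mul_add, ← hk, ← hk]
  · apply mul_left_cancel₀ hd0
    change d * k m1 = _
    rw [← hk, hm1, _root_.mul_one]

/-- **Integral points of split tori.** `R` a ring, `O` a DVR over `R` with fraction field `K`, `j : D(M) ⟶ H` a
quasi-finite homomorphism over `R` to an affine group. A `K`-point of `D(M)` whose image in `H` is an `O`-point is an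
`O`-point. -/
theorem exists_pt {R : Type u} [CommRing R] [Algebra R O] [Algebra R K] [IsScalarTower R O K] {M : Type}
    [AddCommGroup M] [Module.Finite ℤ M] [Module.Free ℤ M] {H : Over (Spec (CommRingCat.of R))} [GrpObj H]
    [IsAffine H.left] (j : Red.DS (Spec (CommRingCat.of R)) M ⟶ H) [IsMonHom j] [LocallyQuasiFinite j.left]
    (z : DE R K ⟶ Red.DS (Spec (CommRingCat.of R)) M) (h : DE R O ⟶ H)
    (hz : z ≫ j = sp (IsScalarTower.toAlgHom R O K) ≫ h) :
    ∃ z' : DE R O ⟶ Red.DS (Spec (CommRingCat.of R)) M, sp (IsScalarTower.toAlgHom R O K) ≫ z' = z := by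
  obtain ⟨ϖ, hϖ⟩ := IsDiscreteValuationRing.exists_irreducible O
  have hinj := IsFractionRing.injective O K
  have hϖ0 : algebraMap O K ϖ ≠ 0 := by
    rw [Ne, map_eq_zero_iff _ hinj]
    exact hϖ.ne_zero
  let χ : Multiplicative M →* K := (dsPt (K := R) M K).symm z
  have hχ : dsPt (K := R) M K χ = z := MulEquiv.apply_symm_apply _ _
  obtain ⟨lam, ν, hd⟩ := exists_decomp O K hϖ χ
  let zi : DE R O ⟶ Red.DS (Spec (CommRingCat.of R)) M := dsPt (K := R) M O ν
  have hzi : sp (IsScalarTower.toAlgHom R O K) ≫ zi =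
      dsPt (K := R) M K ((algebraMap O K : O →* K).comp ν) := by
    rw [sp_dsPt]
    rfl
  by_cases hlam : lam = 0
  · refine ⟨zi, ?_⟩
    rw [hzi, ← hχ]
    congr 1
    ext m
    have := hd m
    rw [hlam] at this
    simp only [AddMonoidHom.zero_apply, zpow_zero, _root_.mul_one] at this
    exact this.symm
  exfalso
  obtain ⟨d, lam', hd0, hlam', m1, hm1⟩ := exists_primitive lam hlam
  -- the point `z₁`
  let ϖK : Kˣ := Units.mk0 _ hϖ0
  let χn : ℤ → (Multiplicative M →* K) := fun n =>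
    (Units.coeHom K).comp ((zpowersHom Kˣ (ϖK ^ n)).comp (AddMonoidHom.toMultiplicative lam))
  have hχn : ∀ (n : ℤ) (m : Multiplicative M), χn n m = algebraMap O K ϖ ^ (n * lam m.toAdd) := by
    intro n m
    have : χn n m = (((ϖK ^ n) ^ (lam m.toAdd) : Kˣ) : K) := by simp [χn]
    rw [this, ← zpow_mul, Units.val_zpow_eq_zpow_val]
    rfl
  let Z : ℤ → (DE R K ⟶ Red.DS (Spec (CommRingCat.of R)) M) := fun n => dsPt (K := R) M K (χn n)
  have hZ : ∀ n n', Z (n + n') = Z n * Z n' := by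
    intro n n'
    change dsPt (K := R) M K (χn (n + n')) = dsPt (K := R) M K (χn n) * dsPt (K := R) M K (χn n')
    rw [← map_mul]
    congr 1
    apply MonoidHom.ext
    intro m
    rw [MonoidHom.mul_apply, hχn, hχn, hχn, ← zpow_add₀ hϖ0, ← add_mul]
  let z1 : DE R K ⟶ Red.DS (Spec (CommRingCat.of R)) M := Z 1
  have hZn : ∀ n : ℤ, z1 ^ n = dsPt (K := R) M K (χn n) := fun n => zpow_of_add Z hZ n
  have hz1 : z1 * (sp (IsScalarTower.toAlgHom R O K) ≫ zi) = z := by
    rw [hzi, ← hχ]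
    change dsPt (K := R) M K (χn 1) * _ = _
    rw [← map_mul]
    congr 1
    apply MonoidHom.ext
    intro m
    have := hd m.toAdd
    rw [_root_.mul_comm] at this
    refine Eq.trans ?_ this.symm
    rw [MonoidHom.mul_apply, hχn, _root_.one_mul]
    rfl
  let h1 : DE R O ⟶ H := h * (zi ≫ j)⁻¹
  have hz1j : z1 ≫ j = sp (IsScalarTower.toAlgHom R O K) ≫ h1 := by
    rw [MonObj.comp_mul, ← hz, GrpObj.comp_inv, ← hz1, MonObj.mul_comp, Category.assoc]
    group
  -- the Laurent point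
  let χc : Multiplicative M →* O[T;T⁻¹] :=
    { toFun := fun m => T (lam' m.toAdd)
      map_one' := by simp
      map_mul' := fun m m' => by rw [toAdd_mul, map_add, T_add] }
  let c : DE R O[T;T⁻¹] ⟶ Red.DS (Spec (CommRingCat.of R)) M := dsPt (K := R) M _ χc
  obtain ⟨w, hw⟩ := exists_iso_ds (O := R) M
  let γ' : MonoidAlgebra R (Multiplicative M) →ₐ[R] O[T;T⁻¹] := MonoidAlgebra.lift R _ (Multiplicative M) χc
  have hc : sp γ' ≫ w.hom = c := by
    rw [hw, sp_dsPt]
    congr 1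
    ext m
    simp [γ']
  have hγT : ∀ i : ℤ, ∃ y, γ' y = T i := by
    intro i
    refine ⟨MonoidAlgebra.of R (Multiplicative M) (Multiplicative.ofAdd (i • m1)), ?_⟩
    have e1 : γ' (MonoidAlgebra.of R (Multiplicative M) (Multiplicative.ofAdd (i • m1))) =
        χc (Multiplicative.ofAdd (i • m1)) := by simp [γ']
    rw [e1]
    change T (lam' (i • m1)) = T i
    rw [map_zsmul, hm1, smul_eq_mul, _root_.mul_one]
  obtain ⟨C, _, _, ⟨e⟩⟩ := exists_iso_DE H
  obtain ⟨a, ha⟩ := exists_sp (w.hom ≫ j ≫ e.inv)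
  let b : C →ₐ[R] O[T;T⁻¹] := γ'.comp a
  have hb : c ≫ j ≫ e.inv = sp b := by
    rw [← hc, Category.assoc, ← ha, sp_comp]
  -- the image of `b` is constant
  let i0 : O →ₐ[R] O[T;T⁻¹] := (Algebra.ofId O O[T;T⁻¹]).restrictScalars R
  let κ : K →ₐ[R] K[T;T⁻¹] := (Algebra.ofId K K[T;T⁻¹]).restrictScalars R
  let inc' : O[T;T⁻¹] →ₐ[R] K[T;T⁻¹] := (inc O K).restrictScalars R
  let subst' : Kˣ → K[T;T⁻¹] →ₐ[R] K[T;T⁻¹] := fun r => (subst (O := O) r).restrictScalars R
  have hκ : κ.comp (IsScalarTower.toAlgHom R O K) = inc'.comp i0 := by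
    refine AlgHom.ext fun x => ?_
    change algebraMap K K[T;T⁻¹] (algebraMap O K x) = inc O K (algebraMap O O[T;T⁻¹] x)
    rw [AlgHom.commutes, ← IsScalarTower.algebraMap_apply]
  have hbc : ∀ x (i : ℤ), i ≠ 0 → (b x).coeff i = 0 := by
    intro x i hi
    refine coeff_eq_zero hϖ (ϖK ^ d) d hd0 (by simp [ϖK]) _ ?_ i hi
    intro n
    -- the point `c z₁ⁿ`
    let y : DE R O[T;T⁻¹] ⟶ H := (c ≫ j) * (sp i0 ≫ h1 ^ n)
    obtain ⟨an, han⟩ := exists_sp (y ≫ e.inv)
    refine ⟨an x, ?_⟩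
    have hzn : (z1 ^ n) ≫ j = sp (IsScalarTower.toAlgHom R O K) ≫ h1 ^ n := by
      rw [GrpObj.zpow_comp, hz1j, GrpObj.comp_zpow]
    have e1 : sp inc' ≫ y = ((sp inc' ≫ c) * (sp κ ≫ z1 ^ n)) ≫ j := by
      rw [MonObj.comp_mul, MonObj.mul_comp, Category.assoc, Category.assoc, hzn, ← Category.assoc (sp κ),
        ← Category.assoc (sp inc') (sp i0), sp_comp, sp_comp, hκ]
    have e2 : (sp inc' ≫ c) * (sp κ ≫ z1 ^ n) = sp (subst' ((ϖK ^ d) ^ n)) ≫ sp inc' ≫ c := by
      rw [hZn, sp_dsPt, sp_dsPt, sp_dsPt, ← map_mul]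
      congr 1
      apply MonoidHom.ext
      intro m
      have f1 : χc m = T (lam' m.toAdd) := rfl
      change inc O K (χc m) * κ (χn n m) = subst (O := O) ((ϖK ^ d) ^ n) (inc O K (χc m))
      rw [f1, inc_T, subst_T, hχn, hlam', _root_.mul_comm]
      congr 1
      change algebraMap K K[T;T⁻¹] _ = _
      rw [← LaurentPolynomial.C_eq_algebraMap]
      congr 1
      rw [← zpow_mul, ← zpow_mul, Units.val_zpow_eq_zpow_val]
      change _ = (algebraMap O K ϖ) ^ _
      congr 1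
      ring
    have e3 : sp (inc'.comp an) = sp ((subst' ((ϖK ^ d) ^ n)).comp (inc'.comp b)) := by
      rw [← sp_comp, ← sp_comp, ← sp_comp, han, ← hb, ← Category.assoc, e1, e2]
      simp only [Category.assoc]
    exact congrArg (fun k => k x) (sp_injective e3)
  -- `b` is quasi-finite
  have hqa : a.toRingHom.QuasiFinite := by
    have e1 : LocallyQuasiFinite (Spec.map (CommRingCat.ofHom a.toRingHom)) := by
      have e2 : Spec.map (CommRingCat.ofHom a.toRingHom) = (w.hom ≫ j ≫ e.inv).left := by rw [← ha]; rfl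
      rw [e2, Over.comp_left, Over.comp_left]
      infer_instance
    exact (HasRingHomProperty.Spec_iff (P := @LocallyQuasiFinite)).mp e1
  let _ : Algebra C (MonoidAlgebra R (Multiplicative M)) := a.toRingHom.toAlgebra
  have hqa' : Algebra.QuasiFinite C (MonoidAlgebra R (Multiplicative M)) := hqa
  let bO : C ⊗[R] O →ₐ[R] O[T;T⁻¹] := Algebra.TensorProduct.lift b i0 (fun _ _ => mul_comm _ _)
  let _ : Algebra C O[T;T⁻¹] := b.toRingHom.toAlgebra
  let _ : Algebra (C ⊗[R] O) O[T;T⁻¹] := bO.toRingHom.toAlgebra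
  have ht : IsScalarTower C (C ⊗[R] O) O[T;T⁻¹] := .of_algebraMap_eq (fun x => by
    change b x = bO (x ⊗ₜ 1)
    simp [bO])
  let γC : MonoidAlgebra R (Multiplicative M) →ₐ[C] O[T;T⁻¹] := ⟨γ'.toRingHom, fun x => rfl⟩
  refine not_quasiFinite bO.toRingHom ?_ ?_
  · intro x i hi
    change (bO x).coeff i = 0
    induction x using TensorProduct.induction_on with
    | zero => simp
    | add x y hx hy =>
      rw [map_add, AddMonoidAlgebra.coeff_add, Finsupp.add_apply, hx, hy, add_zero]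
    | tmul x o =>
      have e1 : bO (x ⊗ₜ o) = o • b x := by
        change b x * algebraMap O O[T;T⁻¹] o = _
        rw [Algebra.smul_def, _root_.mul_comm]
      rw [e1, AddMonoidAlgebra.coeff_smul, Finsupp.smul_apply, hbc x i hi, smul_zero]
  · change Algebra.QuasiFinite (C ⊗[R] O) O[T;T⁻¹]
    let g : (C ⊗[R] O) ⊗[C] (MonoidAlgebra R (Multiplicative M)) →ₐ[C ⊗[R] O] O[T;T⁻¹] :=
      Algebra.TensorProduct.lift (Algebra.ofId _ _) γC (fun _ _ => mul_comm _ _)
    refine Algebra.QuasiFinite.of_surjective_algHom g ?_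
    have hg : ∀ (o : O) (m : MonoidAlgebra R (Multiplicative M)),
        g (((1 : C) ⊗ₜ[R] o) ⊗ₜ[C] m) = LaurentPolynomial.C o * γ' m := by
      intro o m
      have e1 : g (((1 : C) ⊗ₜ[R] o) ⊗ₜ[C] m) = bO (1 ⊗ₜ o) * γ' m := rfl
      rw [e1]
      congr 1
      change b 1 * algebraMap O O[T;T⁻¹] o = _
      rw [map_one, _root_.one_mul, LaurentPolynomial.C_eq_algebraMap]
    intro p
    induction p using LaurentPolynomial.induction_on' with
    | add p q hp hq =>
      obtain ⟨y, rfl⟩ := hp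
      obtain ⟨y', rfl⟩ := hq
      exact ⟨y + y', map_add _ _ _⟩
    | C_mul_T n o =>
      obtain ⟨y, hy⟩ := hγT n
      exact ⟨((1 : C) ⊗ₜ[R] o) ⊗ₜ[C] y, by rw [hg, hy]⟩

end main

end Groth.Agent.Sga3.H779.ExtTorus
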