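import Mathlib

/-!
# Characters of a discretely valued field; Laurent polynomials
-/

set_option autoImplicit false
universe u

open LaurentPolynomial

namespace Groth.Agent.Sga3.H779.ExtTorusAlg

section dvr

variable (O K : Type u) [CommRing O] [IsDomain O] [IsDiscreteValuationRing O] [Field K] [Algebra O K]
  [IsFractionRing O K]

/-- nonzero elements of the fraction field of a DVR -/
theorem exists_zpow {ϖ : O} (hϖ : Irreducible ϖ) (x : K) (hx : x ≠ 0) :
    ∃ (n : ℤ) (u : Oˣ), x = algebraMap O K u * (algebraMap O K ϖ) ^ n := by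
  obtain ⟨a, b, hb, rfl⟩ := IsFractionRing.div_surjective (A := O) x
  have hinj := IsFractionRing.injective O K
  have hb0 : b ≠ 0 := nonZeroDivisors.ne_zero hb
  have ha0 : a ≠ 0 := by
    rintro rfl
    simp at hx
  have hϖ0 : algebraMap O K ϖ ≠ 0 := by
    rw [Ne, map_eq_zero_iff _ hinj]
    exact hϖ.ne_zero
  obtain ⟨p, u, hu⟩ := IsDiscreteValuationRing.eq_unit_mul_pow_irreducible ha0 hϖ
  obtain ⟨q, v, hv⟩ := IsDiscreteValuationRing.eq_unit_mul_pow_irreducible hb0 hϖ
  refine ⟨(p : ℤ) - q, u * v⁻¹, ?_⟩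
  have hv0 : algebraMap O K (v : O) ≠ 0 := by
    rw [Ne, map_eq_zero_iff _ hinj]
    exact v.ne_zero
  have hvi : algebraMap O K ((v⁻¹ : Oˣ) : O) = (algebraMap O K (v : O))⁻¹ := by
    apply eq_inv_of_mul_eq_one_left
    rw [← map_mul]
    simp
  rw [hu, hv, zpow_sub₀ hϖ0, zpow_natCast, zpow_natCast, map_mul, map_mul, map_pow, map_pow, Units.val_mul, map_mul,
    hvi]
  field_simp

/-- a character with values in `K` is the product of a power of the uniformizer and a character with values in `O`. -/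
theorem exists_decomp {ϖ : O} (hϖ : Irreducible ϖ) {M : Type} [AddCommGroup M] [Module.Finite ℤ M]
    [Module.Free ℤ M] (χ : Multiplicative M →* K) :
    ∃ (lam : M →+ ℤ) (ν : Multiplicative M →* O), ∀ m : M,
      χ (Multiplicative.ofAdd m) = algebraMap O K (ν (Multiplicative.ofAdd m)) * (algebraMap O K ϖ) ^ (lam m) := by
  have hinj := IsFractionRing.injective O K
  have hϖ0 : algebraMap O K ϖ ≠ 0 := by
    rw [Ne, map_eq_zero_iff _ hinj]
    exact hϖ.ne_zero
  let b := Module.Free.chooseBasis ℤ M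
  have hne : ∀ m, χ m ≠ 0 := fun m => (Group.isUnit m |>.map χ).ne_zero
  choose n v hn using fun i => exists_zpow O K hϖ (χ (Multiplicative.ofAdd (b i))) (hne _)
  let lam : M →+ ℤ := (b.constr ℤ n : M →ₗ[ℤ] ℤ).toAddMonoidHom
  let κ : M →+ Additive Oˣ := (b.constr ℤ (fun i => Additive.ofMul (v i)) : M →ₗ[ℤ] Additive Oˣ).toAddMonoidHom
  let ν : Multiplicative M →* O := (Units.coeHom O).comp (AddMonoidHom.toMultiplicativeLeft κ)
  refine ⟨lam, ν, ?_⟩
  -- both sides are homomorphisms `M → Kˣ`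
  let f1 : M →+ Additive Kˣ := AddMonoidHom.toMultiplicativeLeft.symm χ.toHomUnits
  let f2 : M →+ Additive Kˣ := ((Units.map (algebraMap O K : O →* K)).toAdditive.comp κ) +
    ((zmultiplesHom (Additive Kˣ) (Additive.ofMul (Units.mk0 _ hϖ0))).comp lam)
  have hf2 : ∀ m, Additive.toMul (f2 m) = Units.map (algebraMap O K : O →* K) ((κ m).toMul) *
      (Units.mk0 _ hϖ0) ^ (lam m) := fun m => rfl
  have h : f1.toIntLinearMap = f2.toIntLinearMap := by
    apply b.ext
    intro i
    have h1 : lam (b i) = n i := by simp [lam]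
    have h2 : κ (b i) = Additive.ofMul (v i) := by simp [κ]
    apply Additive.toMul.injective
    apply Units.ext
    change χ (Multiplicative.ofAdd (b i)) = _
    rw [hn i]
    change _ = ((Additive.toMul (f2 (b i)) : Kˣ) : K)
    rw [hf2, h1, h2]
    simp
  intro m
  have h3 := congrArg (fun k => ((Additive.toMul (k m) : Kˣ) : K)) h
  change χ (Multiplicative.ofAdd m) = ((Additive.toMul (f2 m) : Kˣ) : K) at h3
  rw [h3, hf2]
  simp [ν]

end dvr

section laurent

variable {O K : Type u} [CommRing O] [Field K] [Algebra O K]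

/-- the substitution `T ↦ r T` -/
noncomputable def subst (r : Kˣ) : K[T;T⁻¹] →ₐ[O] K[T;T⁻¹] :=
  (AddMonoidAlgebra.lift K K[T;T⁻¹] ℤ
    { toFun := fun i => C ((r ^ (Multiplicative.toAdd i) : Kˣ) : K) * T (Multiplicative.toAdd i)
      map_one' := by simp
      map_mul' := by
        intro i j
        rw [toAdd_mul, zpow_add, Units.val_mul, map_mul, T_add]
        ring }).restrictScalars O

lemma subst_single (r : Kˣ) (i : ℤ) (a : K) : subst (O := O) r (C a * T i) = C (a * ((r ^ i : Kˣ) : K)) * T i := by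
  rw [← single_eq_C_mul_T]
  change AddMonoidAlgebra.lift K K[T;T⁻¹] ℤ _ (AddMonoidAlgebra.single i a) = _
  rw [AddMonoidAlgebra.lift_single]
  simp only [MonoidHom.coe_mk, OneHom.coe_mk, toAdd_ofAdd]
  rw [smul_eq_C_mul, map_mul]
  ring

lemma subst_T (r : Kˣ) (i : ℤ) : subst (O := O) r (T i) = C ((r ^ i : Kˣ) : K) * T i := by
  have := subst_single (O := O) r i 1
  rwa [map_one, _root_.one_mul, _root_.one_mul] at this

lemma subst_coeff (r : Kˣ) (p : K[T;T⁻¹]) (i : ℤ) :
    (subst (O := O) r p).coeff i = p.coeff i * ((r ^ i : Kˣ) : K) := by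
  induction p using LaurentPolynomial.induction_on' with
  | add p q hp hq =>
    rw [map_add]
    simp only [AddMonoidAlgebra.coeff_add, Finsupp.add_apply] at hp hq ⊢
    rw [hp, hq, add_mul]
  | C_mul_T n a =>
    rw [subst_single, ← single_eq_C_mul_T, ← single_eq_C_mul_T, AddMonoidAlgebra.coeff_single,
      AddMonoidAlgebra.coeff_single, Finsupp.single_apply, Finsupp.single_apply]
    split_ifs with h
    · rw [h]
    · rw [zero_mul]

variable (O K) in
/-- coefficients -/
noncomputable def inc : O[T;T⁻¹] →ₐ[O] K[T;T⁻¹] := AddMonoidAlgebra.mapAlgHom ℤ (Algebra.ofId O K)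

lemma inc_coeff (p : O[T;T⁻¹]) (i : ℤ) : (inc O K p).coeff i = algebraMap O K (p.coeff i) :=
  AddMonoidAlgebra.coeff_mapAlgHom _ _ _

lemma inc_T (i : ℤ) : inc O K (T i) = T i := by
  change AddMonoidAlgebra.mapAlgHom ℤ (Algebra.ofId O K) (AddMonoidAlgebra.single i 1) = _
  rw [AddMonoidAlgebra.mapAlgHom_single, map_one]
  rfl

/-- A Laurent polynomial over a DVR all whose translates by powers of the uniformizer are integral is constant. -/
theorem coeff_eq_zero [IsDomain O] [IsDiscreteValuationRing O] [IsFractionRing O K] {ϖ : O} (hϖ : Irreducible ϖ)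
    (r : Kˣ) (d : ℤ) (hd : d ≠ 0) (hr : (r : K) = algebraMap O K ϖ ^ d) (p : O[T;T⁻¹])
    (h : ∀ n : ℤ, ∃ q : O[T;T⁻¹], inc O K q = subst (O := O) (r ^ n) (inc O K p)) (i : ℤ) (hi : i ≠ 0) :
    p.coeff i = 0 := by
  have hinj := IsFractionRing.injective O K
  have hϖ0 : algebraMap O K ϖ ≠ 0 := by
    rw [Ne, map_eq_zero_iff _ hinj]
    exact hϖ.ne_zero
  -- all powers of `ϖ` divide the coefficient
  have key : ∀ N : ℕ, ϖ ^ N ∣ p.coeff i := by
    intro N
    obtain ⟨q, hq⟩ := h (-(d * i) * N)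
    have h1 := congrArg (fun k => k.coeff i) hq
    simp only [inc_coeff, subst_coeff] at h1
    -- `q_i = p_i ϖ^{-(d i)^2 N}`
    have h2 : (((r ^ (-(d * i) * N : ℤ)) ^ i : Kˣ) : K) = algebraMap O K ϖ ^ (-((d * i) ^ 2 * N)) := by
      rw [Units.val_zpow_eq_zpow_val, Units.val_zpow_eq_zpow_val, hr, ← zpow_mul, ← zpow_mul]
      congr 1
      ring
    rw [h2, zpow_neg, ← div_eq_mul_inv, eq_div_iff (zpow_ne_zero _ hϖ0)] at h1
    obtain ⟨e, he⟩ : ∃ e : ℕ, (d * i) ^ 2 * N = ((N + e : ℕ) : ℤ) := by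
      have h3 : 1 ≤ (d * i) ^ 2 := by
        have : 0 < (d * i) ^ 2 := by positivity
        omega
      refine ⟨((d * i) ^ 2 * N - N).toNat, ?_⟩
      push_cast
      rw [Int.toNat_of_nonneg]
      · ring
      · nlinarith
    rw [he, zpow_natCast, ← map_pow, ← map_mul] at h1
    rw [← hinj h1, pow_add]
    exact Dvd.intro_left (q.coeff i * ϖ ^ e) (by ring)
  by_contra hne
  obtain ⟨n, u, hu⟩ := IsDiscreteValuationRing.eq_unit_mul_pow_irreducible hne hϖ
  have h4 := key (n + 1)
  rw [hu] at h4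
  have h5 : ϖ ^ (n + 1) ∣ ϖ ^ n := (Units.dvd_mul_left).mp h4
  exact absurd ((pow_dvd_pow_iff hϖ.ne_zero hϖ.not_isUnit).mp h5) (by omega)

end laurent

end Groth.Agent.Sga3.H779.ExtTorusAlg
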