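import Mathlib.AlgebraicGeometry.Fiber
import Mathlib.AlgebraicGeometry.Morphisms.Smooth
import Mathlib.AlgebraicGeometry.ResidueField
import Mathlib.RingTheory.LocalRing.ResidueField.Fiber
import Mathlib.CategoryTheory.Limits.Shapes.Pullback.Mono

/-!
# Properties of the fibre rings of an affine chart from properties of the scheme-theoretic fibre
-/

set_option autoImplicit false

open TensorProduct CategoryTheory AlgebraicGeometry Limits

namespace Groth.Agent.Sga3.H779.FibRing

universe u

/-- A property of morphisms stable under base change, and under precomposition with open immersions, which holds for the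
fibre of `f : X ⟶ S` at `i p`, holds for `Spec (κ(p) ⊗ B) ⟶ Spec κ(p)`. -/
theorem fibre_ring_property (P : MorphismProperty Scheme.{u}) [P.IsStableUnderBaseChange]
    (hcomp : ∀ {X Y Z : Scheme.{u}} (f : X ⟶ Y) (g : Y ⟶ Z), IsOpenImmersion f → P g → P (f ≫ g))
    {X S : Scheme.{u}} (f : X ⟶ S) {R B : Type u} [CommRing R]
    [CommRing B] [Algebra R B]
    (j : Spec (CommRingCat.of B) ⟶ X) [IsOpenImmersion j] (i : Spec (CommRingCat.of R) ⟶ S) [Mono i]
    (h : j ≫ f = Spec.map (CommRingCat.ofHom (algebraMap R B)) ≫ i) (p : PrimeSpectrum R)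
    (hs : P (pullback.snd f (S.fromSpecResidueField (i p)))) :
    P (Spec.map (CommRingCat.ofHom (algebraMap p.asIdeal.ResidueField (p.asIdeal.Fiber B)))) := by
  let K := p.asIdeal.ResidueField
  let a' : Spec (CommRingCat.of K) ⟶ Spec (CommRingCat.of R) :=
    Spec.map (CommRingCat.ofHom (algebraMap R K))
  let a := a' ≫ i
  have ha' : a' (IsLocalRing.closedPoint K) = p := by
    have h1 : a' (IsLocalRing.closedPoint K) ∈ Set.range (PrimeSpectrum.comap (algebraMap R K)) :=
      ⟨_, rfl⟩
    rw [PrimeSpectrum.residueField_comap] at h1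
    exact h1
  have ha : a (IsLocalRing.closedPoint K) = i p :=
    congrArg (fun z : Spec (CommRingCat.of R) ↦ i z) ha'
  obtain ⟨c, hc⟩ : ∃ c : Spec (CommRingCat.of K) ⟶ Spec (S.residueField (i p)),
      c ≫ S.fromSpecResidueField (i p) = a := by
    rw [← ha]
    exact ⟨_, Scheme.descResidueField_stalkClosedPointTo_fromSpecResidueField K S a⟩
  have h1 : P (pullback.snd f a) := by
    have hpb : IsPullback (pullback.fst f a) (pullback.snd f a) f (c ≫ S.fromSpecResidueField (i p)) := by
      rw [hc]; exact IsPullback.of_hasPullback f a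
    have hpb' := IsPullback.of_right' hpb (IsPullback.of_hasPullback f (S.fromSpecResidueField (i p)))
    exact P.of_isPullback hpb' hs
  -- the square of the fibre ring
  have hsq : IsPullback (Spec.map (CommRingCat.ofHom
        (Algebra.TensorProduct.includeRight : B →ₐ[R] K ⊗[R] B).toRingHom))
      (Spec.map (CommRingCat.ofHom (algebraMap K (K ⊗[R] B))))
      (Spec.map (CommRingCat.ofHom (algebraMap R B))) a' := by
    exact (isPullback_SpecMap_of_isPushout _ _ _ _ (CommRingCat.isPushout_tensorProduct R K B)).flip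
  have hsq' : IsPullback (Spec.map (CommRingCat.ofHom
        (Algebra.TensorProduct.includeRight : B →ₐ[R] K ⊗[R] B).toRingHom))
      (Spec.map (CommRingCat.ofHom (algebraMap K (K ⊗[R] B))))
      (j ≫ f) a := by
    rw [h]
    refine ⟨⟨by simp only [a, reassoc_of% hsq.w]⟩, ⟨?_⟩⟩
    exact (PullbackCone.isLimitOfCompMono _ _ i (PullbackCone.mk _ _ hsq.w) hsq.isLimit)
  have h2 := IsPullback.of_bot' hsq' (IsPullback.of_hasPullback f a)
  have h3 := MorphismProperty.of_isPullback (P := @IsOpenImmersion) h2 inferInstance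
  have h4 := hcomp _ (pullback.snd f a) h3 h1
  rwa [IsPullback.lift_snd] at h4

theorem smooth_fibre_ring {X S : Scheme.{u}} (f : X ⟶ S) {R B : Type u} [CommRing R]
    [CommRing B] [Algebra R B]
    (j : Spec (CommRingCat.of B) ⟶ X) [IsOpenImmersion j] (i : Spec (CommRingCat.of R) ⟶ S) [Mono i]
    (h : j ≫ f = Spec.map (CommRingCat.ofHom (algebraMap R B)) ≫ i) (p : PrimeSpectrum R)
    (hs : Smooth (pullback.snd f (S.fromSpecResidueField (i p)))) :
    Algebra.Smooth p.asIdeal.ResidueField (p.asIdeal.Fiber B) := by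
  have h1 := fibre_ring_property @Smooth (fun f g _ _ ↦ inferInstance) f j i h p hs
  rw [HasRingHomProperty.Spec_iff (P := @Smooth)] at h1
  exact RingHom.smooth_algebraMap.1 h1

end Groth.Agent.Sga3.H779.FibRing
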