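import Groth.Agent.UnramB.SmoothUnibranch
import Mathlib.RingTheory.Spectrum.Prime.Topology
import Mathlib.RingTheory.Spectrum.Prime.Noetherian
import Mathlib.RingTheory.Spectrum.Prime.RingHom
import Mathlib.RingTheory.Ideal.MinimalPrime.Noetherian
import Mathlib.RingTheory.Smooth.Basic

/-!
# Connected subsets of the spectrum of a smooth algebra over a field

`le_of_isPreconnected`: if `N` is smooth over a field, `P` a minimal prime of `N`, and `T` a preconnected subset of
`Spec N` containing `P`, then every point of `T` contains `P`.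
-/

set_option autoImplicit false

open TopologicalSpace

namespace Groth.Agent.Sga3.H779.FibreIrr

universe u v

theorem eq_of_le_of_isDomain {N : Type u} [CommRing N] (Q P P' : Ideal N) [Q.IsPrime]
    (hd : IsDomain (Localization.AtPrime Q)) (hP : P ∈ minimalPrimes N) (hP' : P' ∈ minimalPrimes N)
    (h : P ≤ Q) (h' : P' ≤ Q) : P = P' := by
  have key : ∀ P : Ideal N, P ∈ minimalPrimes N → P ≤ Q →
      P = RingHom.ker (algebraMap N (Localization.AtPrime Q)) := by
    intro P hP h
    have hPp : P.IsPrime := hP.1.1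
    have hle : RingHom.ker (algebraMap N (Localization.AtPrime Q)) ≤ P := by
      intro x hx
      rw [RingHom.mem_ker, IsLocalization.map_eq_zero_iff Q.primeCompl] at hx
      obtain ⟨s, hs⟩ := hx
      have h1 : (s : N) * x ∈ P := by rw [hs]; exact P.zero_mem
      rcases hPp.mem_or_mem h1 with h2 | h2
      · exact absurd (h h2) s.2
      · exact h2
    have hkp : (RingHom.ker (algebraMap N (Localization.AtPrime Q))).IsPrime :=
      RingHom.ker_isPrime _
    exact le_antisymm (hP.2 ⟨hkp, bot_le⟩ hle) hle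
  rw [key P hP h, key P' hP' h']

theorem isOpen_zeroLocus {N : Type u} [CommRing N] [IsNoetherianRing N]
    (hd : ∀ Q : Ideal N, ∀ _ : Q.IsPrime, IsDomain (Localization.AtPrime Q))
    (P : Ideal N) (hP : P ∈ minimalPrimes N) :
    IsOpen (PrimeSpectrum.zeroLocus (P : Set N)) := by
  have hfin : (minimalPrimes N).Finite := minimalPrimes.finite_of_isNoetherianRing N
  have h1 : (PrimeSpectrum.zeroLocus (P : Set N))ᶜ =
      ⋃ P' ∈ (minimalPrimes N \ {P}), PrimeSpectrum.zeroLocus (P' : Set N) := by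
    ext Q
    simp only [Set.mem_compl_iff, PrimeSpectrum.mem_zeroLocus, SetLike.coe_subset_coe,
      Set.mem_iUnion, exists_prop, Set.mem_sdiff, Set.mem_singleton_iff]
    constructor
    · intro hQ
      obtain ⟨P', hP', hle⟩ := Ideal.exists_minimalPrimes_le (I := (⊥ : Ideal N)) (J := Q.asIdeal) bot_le
      refine ⟨P', ⟨hP', ?_⟩, hle⟩
      rintro rfl
      exact hQ hle
    · rintro ⟨P', ⟨hP', hne⟩, hle⟩ hQ
      exact hne (eq_of_le_of_isDomain Q.asIdeal P' P (hd _ Q.2) hP' hP hle hQ)
  rw [← isClosed_compl_iff, h1]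
  exact (hfin.subset Set.sdiff_subset).isClosed_biUnion fun P' _ ↦ PrimeSpectrum.isClosed_zeroLocus _

theorem le_of_isPreconnected {K : Type u} {N : Type v} [Field K] [CommRing N] [Algebra K N]
    [Algebra.Smooth K N] (P : PrimeSpectrum N) (hP : P.asIdeal ∈ minimalPrimes N)
    (T : Set (PrimeSpectrum N)) (hT : IsPreconnected T) (hPT : P ∈ T) (Q : PrimeSpectrum N)
    (hQ : Q ∈ T) : P.asIdeal ≤ Q.asIdeal := by
  have hnoeth : IsNoetherianRing N := Algebra.FiniteType.isNoetherianRing K N
  have hd : ∀ Q : Ideal N, ∀ _ : Q.IsPrime, IsDomain (Localization.AtPrime Q) := fun Q _ ↦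
    Groth.Agent.UnramB.SmoothUnibranch.isDomain_localization_of_smooth_normal (R := K) Q
  have h1 : IsClopen (PrimeSpectrum.zeroLocus (P.asIdeal : Set N)) :=
    ⟨PrimeSpectrum.isClosed_zeroLocus _, isOpen_zeroLocus hd _ hP⟩
  have h2 : P ∈ PrimeSpectrum.zeroLocus (P.asIdeal : Set N) := by
    rw [PrimeSpectrum.mem_zeroLocus]
  have h3 := hT.subset_isClopen h1 ⟨P, hPT, h2⟩ hQ
  rwa [PrimeSpectrum.mem_zeroLocus, SetLike.coe_subset_coe] at h3

end Groth.Agent.Sga3.H779.FibreIrr
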