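import Mathlib.RingTheory.Kaehler.TensorProduct
import Mathlib.RingTheory.LocalRing.ResidueField.Fiber
import Mathlib.RingTheory.LocalRing.ResidueField.Instances
import Mathlib.LinearAlgebra.Dimension.Constructions

/-!
# Rank of the differentials at a point, computed in the fibre
-/

set_option autoImplicit false

open TensorProduct KaehlerDifferential

namespace Groth.Agent.Sga3.H779.FinrankFib

universe u

attribute [local instance] Algebra.TensorProduct.rightAlgebra in
theorem finrank_fibre {R B : Type u} [CommRing R] [CommRing B] [Algebra R B] (p : Ideal R) [p.IsPrime]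
    (Q : Ideal (p.Fiber B)) [Q.IsPrime] (q : Ideal B) [q.IsPrime]
    (hq : Q.comap (Algebra.TensorProduct.includeRight : B →ₐ[R] p.Fiber B) = q) :
    Module.finrank Q.ResidueField (Q.ResidueField ⊗[p.Fiber B] Ω[p.Fiber B⁄p.ResidueField]) =
      Module.finrank q.ResidueField (q.ResidueField ⊗[B] Ω[B⁄R]) := by
  have hq' : q = Q.comap (algebraMap B (p.Fiber B)) := hq.symm
  let alg : Algebra q.ResidueField Q.ResidueField :=
    (Ideal.ResidueField.map q Q (algebraMap B (p.Fiber B)) hq').toAlgebra
  have tow : IsScalarTower B q.ResidueField Q.ResidueField := by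
    refine IsScalarTower.of_algebraMap_eq fun x ↦ ?_
    change _ = Ideal.ResidueField.map q Q (algebraMap B (p.Fiber B)) hq' (algebraMap B q.ResidueField x)
    rw [Ideal.ResidueField.map_algebraMap, ← IsScalarTower.algebraMap_apply]
  let e1 : (p.Fiber B) ⊗[B] Ω[B⁄R] ≃ₗ[p.Fiber B] Ω[p.Fiber B⁄p.ResidueField] :=
    KaehlerDifferential.tensorKaehlerEquiv R p.ResidueField B (p.Fiber B)
  let e2 : Q.ResidueField ⊗[p.Fiber B] Ω[p.Fiber B⁄p.ResidueField] ≃ₗ[Q.ResidueField]
      Q.ResidueField ⊗[B] Ω[B⁄R] :=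
    (e1.symm.baseChange (p.Fiber B) Q.ResidueField _ _).trans
      (AlgebraTensorModule.cancelBaseChange B (p.Fiber B) Q.ResidueField Q.ResidueField _)
  let e3 : Q.ResidueField ⊗[q.ResidueField] (q.ResidueField ⊗[B] Ω[B⁄R]) ≃ₗ[Q.ResidueField]
      Q.ResidueField ⊗[B] Ω[B⁄R] :=
    AlgebraTensorModule.cancelBaseChange B q.ResidueField Q.ResidueField Q.ResidueField _
  rw [e2.finrank_eq, ← e3.finrank_eq, Module.finrank_baseChange]

end Groth.Agent.Sga3.H779.FinrankFib
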