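import Groth.Agent.Sga3.H779.Core

/-!
# Smoothness along a section over a reduced base: the ring statement
-/

set_option autoImplicit false

open TensorProduct

namespace Groth.Agent.Sga3.H779.RingThm

universe u

/-- Let `R` be reduced, `B` a finitely presented `R`-algebra with a retraction `ε : B → R` and `p` a prime of `R`. If the
fibres of `B` at the points `ε⁻¹ p'` with `p' ≤ p` have local dimension at least the rank of the differentials at `ε⁻¹ p`,
then `B` is smooth over `R` at `ε⁻¹ p`. -/
theorem isSmoothAt_of_section {R B : Type u} [CommRing R] [IsReduced R] [CommRing B] [Algebra R B]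
    [Algebra.FinitePresentation R B] (ε : B →ₐ[R] R) (p : Ideal R) [p.IsPrime]
    (hr : ∀ (p' : Ideal R) (_ : p'.IsPrime), p' ≤ p → ∃ Q : PrimeSpectrum (p'.Fiber B),
      Q.asIdeal.comap (Algebra.TensorProduct.includeRight : B →ₐ[R] p'.Fiber B) = p'.comap ε ∧
      ((Module.finrank (p.comap ε).ResidueField
        ((p.comap ε).ResidueField ⊗[B] KaehlerDifferential R B) : ℕ) : WithBot ℕ∞) ≤
        FlatMor.localDim (PrimeSpectrum (p'.Fiber B)) Q) :
    Algebra.IsSmoothAt R (p.comap ε) := by
  let q : Ideal B := p.comap ε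
  have hqp : q.IsPrime := inferInstance
  change Algebra.IsSmoothAt R q
  obtain ⟨b, hb⟩ := Groth.Agent.UnramB.SmoothCrit.exists_span_eq_top (A := R) q
  have hr' : ∀ (p' : Ideal R) (_ : p'.IsPrime), p' ≤ p → ∃ Q : PrimeSpectrum (p'.Fiber B),
      Q.asIdeal.comap (Algebra.TensorProduct.includeRight : B →ₐ[R] p'.Fiber B) = p'.comap ε ∧
      ((Module.finrank q.ResidueField (q.ResidueField ⊗[B] KaehlerDifferential R B) : ℕ) : WithBot ℕ∞) ≤
        FlatMor.localDim (PrimeSpectrum (p'.Fiber B)) Q := hr
  clear hr
  generalize Module.finrank q.ResidueField (q.ResidueField ⊗[B] KaehlerDifferential R B) = r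
    at hr' b hb
  let P := MvPolynomial (Fin r) R
  let algPB : Algebra P B := (MvPolynomial.aeval b : P →ₐ[R] B).toRingHom.toAlgebra
  have hPB : ∀ i, algebraMap P B (MvPolynomial.X i) = b i := fun i ↦ MvPolynomial.aeval_X b i
  have tow : IsScalarTower R P B :=
    IsScalarTower.of_algebraMap_eq fun a ↦ ((MvPolynomial.aeval b : P →ₐ[R] B).commutes a).symm
  have hunr : Algebra.IsUnramifiedAt P q := by
    refine Groth.Agent.UnramB.SmoothCrit.isUnramifiedAt_of_span_eq_top (A := R) (P := P) q
      (Set.range MvPolynomial.X) ?_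
    rw [← Set.range_comp, ← hb]
    congr 2
    ext i
    simp only [Function.comp_apply, hPB]
  have hftP : Algebra.FiniteType P B := Algebra.FiniteType.of_restrictScalars_finiteType R P B
  obtain ⟨f, hfq, 𝓟, φ, hφ⟩ := Algebra.IsUnramifiedAt.exists_hasStandardEtaleSurjectionOn (R := P) q
  let C := 𝓟.Ring
  let algAC : Algebra R C := ((algebraMap P C).comp (algebraMap R P)).toAlgebra
  have towC : IsScalarTower R P C := IsScalarTower.of_algebraMap_eq fun a ↦ rfl
  have hRnt : Nontrivial R := by
    rcases subsingleton_or_nontrivial R with h | h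
    · exact absurd (Subsingleton.elim p ⊤) (Ideal.IsPrime.ne_top ‹_›)
    · exact h
  have hPrel : Algebra.IsStandardSmoothOfRelativeDimension r R P :=
    Groth.Agent.UnramB.SmoothCrit.mvPolynomial_relDim R r
  have hCrel0 : Algebra.IsStandardSmoothOfRelativeDimension 0 P C :=
    Algebra.Etale.iff_isStandardSmoothOfRelativeDimension_zero.mp inferInstance
  have hCrel : Algebra.IsStandardSmoothOfRelativeDimension r R C := by
    have := Algebra.IsStandardSmoothOfRelativeDimension.trans (n := r) (m := 0) R P C
    rwa [zero_add] at this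
  have hsm : Algebra.IsStandardSmooth R C :=
    Algebra.IsStandardSmoothOfRelativeDimension.isStandardSmooth r
  let Bf := Localization.Away f
  let φ' : C →ₐ[R] Bf := φ.restrictScalars R
  have hφ' : Function.Surjective φ' := hφ
  let L := Localization.AtPrime q
  have hfu : IsUnit (algebraMap B L f) :=
    IsLocalization.map_units L (⟨f, hfq⟩ : q.primeCompl)
  let ρ : Bf →+* L := IsLocalization.Away.lift f hfu
  have hρ : ∀ x : B, ρ (algebraMap B Bf x) = algebraMap B L x :=
    fun x ↦ IsLocalization.Away.lift_eq f hfu x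
  let algBfL : Algebra Bf L := ρ.toAlgebra
  have towB : IsScalarTower B Bf L := IsScalarTower.of_algebraMap_eq fun x ↦ (hρ x).symm
  have towA : IsScalarTower R Bf L := IsScalarTower.of_algebraMap_eq fun x ↦ by
    rw [IsScalarTower.algebraMap_apply R B Bf, ← IsScalarTower.algebraMap_apply B Bf L,
      ← IsScalarTower.algebraMap_apply R B L]
  -- the section on `Bf`
  let Rp := Localization.AtPrime p
  let ε₀ : B →ₐ[R] Rp := (Algebra.ofId R Rp).comp ε
  have hε₀ : ∀ x, ε₀ x = algebraMap R Rp (ε x) := fun x ↦ rfl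
  have hε₀u : IsUnit (ε₀ f) := by
    rw [hε₀]
    exact IsLocalization.map_units Rp (⟨ε f, hfq⟩ : p.primeCompl)
  let ε' : Bf →ₐ[R] Rp := IsLocalization.liftAlgHom (M := Submonoid.powers f) (f := ε₀) (by
    rintro ⟨_, n, rfl⟩
    rw [map_pow]
    exact hε₀u.pow n)
  have hε' : ∀ x : B, ε' (algebraMap B Bf x) = algebraMap R Rp (ε x) := by
    intro x
    exact IsLocalization.lift_eq _ x
  let q' : Ideal Bf := (IsLocalRing.maximalIdeal Rp).comap ε'
  have hq'prime : q'.IsPrime := Ideal.comap_isPrime _ _
  have hq'q : q'.comap (algebraMap B Bf) = q := by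
    ext x
    change ε' (algebraMap B Bf x) ∈ IsLocalRing.maximalIdeal Rp ↔ ε x ∈ p
    rw [hε']
    exact IsLocalization.AtPrime.to_map_mem_maximal_iff Rp p (ε x)
  have hlocq' : IsLocalization.AtPrime L q' := by
    have h1 : IsLocalization (q.primeCompl.map (algebraMap B Bf)) L :=
      IsLocalization.isLocalization_of_submonoid_le Bf L (Submonoid.powers f) q.primeCompl
        (Submonoid.powers_le.mpr hfq)
    have hcomap : q' = (IsLocalRing.maximalIdeal L).comap ρ := by
      have h2 : ((IsLocalRing.maximalIdeal L).comap ρ).comap (algebraMap B Bf) = q := by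
        rw [Ideal.comap_comap]
        have : ρ.comp (algebraMap B Bf) = algebraMap B L := RingHom.ext hρ
        rw [this]
        exact Localization.AtPrime.under_maximalIdeal
      have h3 : q'.comap (algebraMap B Bf) =
          ((IsLocalRing.maximalIdeal L).comap ρ).comap (algebraMap B Bf) := by rw [hq'q, h2]
      have h4 := congrArg (Ideal.map (algebraMap B Bf)) h3
      rwa [IsLocalization.map_under (Submonoid.powers f) Bf,
        IsLocalization.map_under (Submonoid.powers f) Bf] at h4
    refine IsLocalization.of_le (q.primeCompl.map (algebraMap B Bf)) q'.primeCompl ?_ ?_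
    · rintro _ ⟨x, hx, rfl⟩ hx'
      rw [SetLike.mem_coe, ← Ideal.mem_comap, hq'q] at hx'
      exact hx hx'
    · intro x hx
      by_contra h
      apply hx
      rw [hcomap]
      exact h
  have : Algebra.FormallySmooth R L := by
    refine Groth.Agent.UnramB.SmoothCrit.formallySmooth_of_surjective (A := R) (C := C) (B' := Bf)
      φ' hφ' q' ?_
    intro j hj
    refine Core.exists_notMem_mul_eq_zero (R := R) (C := C) (B := Bf) r φ' hφ' p ε' ?_ j hj
    intro p' hp' hle
    obtain ⟨Q, hQ, hdim⟩ := hr' p' hp' hle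
    have hfQ : (1 : p'.ResidueField) ⊗ₜ[R] f ∉ Q.asIdeal := by
      intro h
      have h1 : f ∈ Q.asIdeal.comap (Algebra.TensorProduct.includeRight : B →ₐ[R] p'.Fiber B) := h
      rw [hQ] at h1
      exact hfq (hle h1)
    obtain ⟨Q', hQ'Q, hdim'⟩ := Groth.Agent.UnramB.SmoothCrit.localDim_tensor_away
      (K := p'.ResidueField) f Q hfQ
    refine ⟨Q', ?_, hdim.trans hdim'.ge⟩
    have h1 : (Q'.asIdeal.comap (Algebra.TensorProduct.includeRight : Bf →ₐ[R] p'.Fiber Bf)).comap
        (algebraMap B Bf) = p'.comap ε := by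
      rw [← hQ]
      ext x
      rw [← hQ'Q]
      change (1 : p'.ResidueField) ⊗ₜ[R] (algebraMap B Bf x) ∈ Q'.asIdeal ↔
        (Algebra.TensorProduct.map (AlgHom.id p'.ResidueField p'.ResidueField)
        (IsScalarTower.toAlgHom R B (Localization.Away f))) (1 ⊗ₜ x) ∈ Q'.asIdeal
      rw [Algebra.TensorProduct.map_tmul]
      rfl
    have h2 : ((p'.map (algebraMap R Rp)).comap ε').comap (algebraMap B Bf) = p'.comap ε := by
      ext x
      change ε' (algebraMap B Bf x) ∈ p'.map (algebraMap R Rp) ↔ ε x ∈ p'
      rw [hε']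
      have hdisj : Disjoint (p.primeCompl : Set R) (p' : Set R) := by
        rw [Set.disjoint_left]
        intro a ha hap
        exact ha (hle hap)
      have h3 := IsLocalization.under_map_of_isPrime_disjoint p.primeCompl Rp hp' hdisj
      change algebraMap R Rp (ε x) ∈ _ ↔ _
      conv_rhs => rw [← h3]
      rfl
    have h4 := congrArg (Ideal.map (algebraMap B Bf)) (h1.trans h2.symm)
    rwa [IsLocalization.map_under (Submonoid.powers f) Bf,
      IsLocalization.map_under (Submonoid.powers f) Bf] at h4
  exact this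

end Groth.Agent.Sga3.H779.RingThm
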