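import Groth.Agent.Sga3.H779.RingThm
import Groth.Agent.Sga3.H779.FibRing
import Groth.Agent.Sga3.H779.FinrankFib
import Groth.Agent.FlatA.FibreDim
import Groth.Agent.S2063

/-!
# Smoothness along a section over a reduced base

`mem_smoothLocus_of_section`: let `S` be reduced, `f : X ⟶ S` locally of finite presentation with a section `e`, and `s` a
point of `S` such that the fibre of `f` at `s` is smooth and the local dimension of the fibres of `f` at the points
`e t`, for `t` a generization of `s`, is at least the one at `e s`. Then `f` is smooth at `e s`.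
-/

set_option autoImplicit false

open TensorProduct CategoryTheory AlgebraicGeometry Limits

namespace Groth.Agent.Sga3.H779.SchemeThm

universe u

theorem exists_fibre_point {R B : Type u} [CommRing R] [CommRing B] [Algebra R B]
    (q' : PrimeSpectrum B) (P : Ideal R) [P.IsPrime] (h : q'.asIdeal.comap (algebraMap R B) = P) :
    ∃ Q : PrimeSpectrum (P.Fiber B),
      Q.asIdeal.comap (Algebra.TensorProduct.includeRight : B →ₐ[R] P.Fiber B) = q'.asIdeal ∧
      FlatMor.localDim (PrimeSpectrum (P.Fiber B)) Q =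
        FlatMor.localDim (PrimeSpectrum.comap (algebraMap R B) ⁻¹'
          {PrimeSpectrum.comap (algebraMap R B) q'}) ⟨q', rfl⟩ := by
  subst h
  let e := PrimeSpectrum.preimageHomeomorphFiber R B (PrimeSpectrum.comap (algebraMap R B) q')
  refine ⟨e ⟨q', rfl⟩, ?_, ?_⟩
  · exact congrArg (fun z ↦ z.1.asIdeal) (e.symm_apply_apply ⟨q', rfl⟩)
  · exact (Groth.Agent.VarietyB.DimTop.localDim_eq_of_homeomorph e ⟨q', rfl⟩).symm

theorem mem_smoothLocus_of_section {X S : Scheme.{u}} [IsReduced S] (f : X ⟶ S)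
    [LocallyOfFinitePresentation f] (e : S ⟶ X) (he : e ≫ f = 𝟙 S) (s : S)
    (hs : Smooth (pullback.snd f (S.fromSpecResidueField s)))
    (hdim : ∀ t : S, t ⤳ s → FlatMor.fibreDimAt f (e s) ≤ FlatMor.fibreDimAt f (e t)) :
    e s ∈ f.smoothLocus := by
  have hef : ∀ t : S, f (e t) = t := by
    intro t
    rw [← Scheme.Hom.comp_apply, he]
    rfl
  obtain ⟨V, hV, hsV, -⟩ := exists_isAffineOpen_mem_and_subset (U := (⊤ : S.Opens)) (x := s) trivial
  obtain ⟨U, hU, hxU, hUV⟩ := exists_isAffineOpen_mem_and_subset (U := f ⁻¹ᵁ V) (x := e s)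
    (show f (e s) ∈ V by rw [hef]; exact hsV)
  have hUV : U ≤ f ⁻¹ᵁ V := hUV
  obtain ⟨g, hgW, hsg⟩ := hV.exists_basicOpen_le (V := V ⊓ e ⁻¹ᵁ U) ⟨s, hsV, hxU⟩ hsV
  let V' : S.Opens := S.basicOpen g
  have hV' : IsAffineOpen V' := hV.basicOpen g
  let U' : X.Opens := X.basicOpen ((f.appLE V U hUV).hom g)
  have hU' : IsAffineOpen U' := hU.basicOpen _
  have hU'eq : U' = U ⊓ f ⁻¹ᵁ V' := Scheme.basicOpen_appLE _ _ _ _ _
  have hU'V' : U' ≤ f ⁻¹ᵁ V' := by rw [hU'eq]; exact inf_le_right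
  have hV'U' : V' ≤ e ⁻¹ᵁ U' := by
    intro t ht
    change e t ∈ U'
    rw [hU'eq]
    refine ⟨(hgW ht).2, ?_⟩
    change f (e t) ∈ V'
    rw [hef]
    exact ht
  let R := Γ(S, V')
  let B := Γ(X, U')
  let alg : Algebra R B := (f.appLE V' U' hU'V').hom.toAlgebra
  have hfp : Algebra.FinitePresentation R B := f.finitePresentation_appLE hV' hU' hU'V'
  have hred : _root_.IsReduced R := inferInstance
  have hcomp : f.appLE V' U' hU'V' ≫ e.appLE U' V' hV'U' = 𝟙 _ := by
    rw [Scheme.Hom.appLE_comp_appLE]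
    have key : ∀ (h : S ⟶ S) (_ : h = 𝟙 S) (e : V' ≤ h ⁻¹ᵁ V'), h.appLE V' V' e = 𝟙 _ := by
      rintro _ rfl e
      exact (Category.id_comp _).trans (S.presheaf.map_id _)
    exact key _ he _
  let ε : B →ₐ[R] R :=
    { (e.appLE U' V' hV'U').hom with
      commutes' := fun x ↦ congr($(hcomp).hom x) }
  let pp := hV'.primeIdealOf ⟨s, hsg⟩
  let p : Ideal R := pp.asIdeal
  have hxU' : e s ∈ U' := hV'U' hsg
  have hcomap : p.comap ε = (hU'.primeIdealOf ⟨e s, hxU'⟩).asIdeal :=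
    congrArg PrimeSpectrum.asIdeal
      (IsAffineOpen.comap_primeIdealOf_appLE (f := e) (x := s) U' hU' V' hV' hV'U' hsg)
  have hpp : hV'.fromSpec pp = s := hV'.fromSpec_primeIdealOf ⟨s, hsg⟩
  rw [Scheme.Hom.mem_smoothLocus, formallySmooth_stalkMap_iff V' hV' U' hU' hU'V' hxU']
  change Algebra.IsSmoothAt R (hU'.primeIdealOf ⟨e s, hxU'⟩).asIdeal
  have hfin : ∀ P : PrimeSpectrum R, ∃ Q : PrimeSpectrum (P.asIdeal.Fiber B),
      Q.asIdeal.comap (Algebra.TensorProduct.includeRight : B →ₐ[R] P.asIdeal.Fiber B) =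
        P.asIdeal.comap ε ∧
      FlatMor.localDim (PrimeSpectrum (P.asIdeal.Fiber B)) Q = FlatMor.fibreDimAt f (e (hV'.fromSpec P)) := by
    intro P
    obtain ⟨Q, hQ1, hQ2⟩ := exists_fibre_point (R := R) (B := B) ⟨P.asIdeal.comap ε, inferInstance⟩ P.asIdeal (by
      ext x
      change ε (algebraMap R B x) ∈ P.asIdeal ↔ _
      rw [AlgHom.commutes]
      rfl)
    refine ⟨Q, hQ1, ?_⟩
    rw [hQ2]
    have h1 : e (hV'.fromSpec P) = hU'.fromSpec (⟨P.asIdeal.comap ε, inferInstance⟩ : PrimeSpectrum B) := by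
      have h2 := IsAffineOpen.SpecMap_appLE_fromSpec e hU' hV' hV'U'
      exact congr($h2.symm P)
    rw [h1]
    exact (Groth.Agent.FlatA.FibreDim.fibreDimAt_fromSpec f hV' hU' hU'V' _).symm
  have key : Algebra.IsSmoothAt R (p.comap ε) := by
    refine RingThm.isSmoothAt_of_section ε p ?_
    intro p' hp' hle
    obtain ⟨Q, hQ1, hQ2⟩ := hfin ⟨p', hp'⟩
    refine ⟨Q, hQ1, ?_⟩
    obtain ⟨Q₀, hQ₀1, hQ₀2⟩ := hfin pp
    rw [← FinrankFib.finrank_fibre p Q₀.asIdeal (p.comap ε) hQ₀1]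
    have hsm : Algebra.Smooth p.ResidueField (p.Fiber B) := by
      refine FibRing.smooth_fibre_ring f hU'.fromSpec hV'.fromSpec ?_ pp ?_
      · exact (IsAffineOpen.SpecMap_appLE_fromSpec f hV' hU' hU'V').symm
      · rw [hpp]; exact hs
    have hsm' : Algebra.IsSmoothAt p.ResidueField Q₀.asIdeal := by
      have h1 : Algebra.FormallySmooth (p.Fiber B) (Localization.AtPrime Q₀.asIdeal) :=
        Algebra.FormallySmooth.of_isLocalization Q₀.asIdeal.primeCompl
      exact Algebra.FormallySmooth.comp p.ResidueField (p.Fiber B) _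
    have h3 := (Groth.Agent.S2063.result (k := p.ResidueField) (S := p.Fiber B) Q₀.asIdeal).mp hsm'
    refine h3.trans ?_
    rw [hQ2]
    change FlatMor.localDim (PrimeSpectrum (p.Fiber B)) Q₀ ≤ _
    rw [hQ₀2, hpp]
    apply hdim
    rw [← hpp]
    exact ((PrimeSpectrum.le_iff_specializes (⟨p', hp'⟩ : PrimeSpectrum R) pp).mp hle).map
      hV'.fromSpec.continuous
  have hfinal : ∀ (I J : Ideal B) (_ : I.IsPrime) (_ : J.IsPrime), I = J → Algebra.IsSmoothAt R I →
      Algebra.IsSmoothAt R J := by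
    rintro I _ _ _ rfl h
    exact h
  exact hfinal _ _ _ _ hcomap key

end Groth.Agent.Sga3.H779.SchemeThm
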