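import Groth.Agent.Sga3.H779.FibreIrr
import Groth.Agent.S1327
import Groth.Agent.Flat2B.SmoothGeom
import Mathlib.RingTheory.LocalRing.ResidueField.Fiber
import Mathlib.AlgebraicGeometry.Morphisms.Smooth

/-!
# Generic points of a smooth algebra near a section

`minimalPrime_le_section`: let `C` be smooth over `R` with a retraction `σ : C → R`, and let `m` be a minimal prime of
`C` contained in a point `σ⁻¹ p` of the section. Then `m` is contained in the point `σ⁻¹ (m ∩ R)` of the section.
-/

set_option autoImplicit false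

open TopologicalSpace CategoryTheory AlgebraicGeometry Limits

namespace Groth.Agent.Sga3.H779.SecGen

universe u

theorem le_of_connectedComponentIn {R C : Type u} [CommRing R] [CommRing C] [Algebra R C]
    [Algebra.Smooth R C] (p : PrimeSpectrum R) (m q : PrimeSpectrum C)
    (hm : m.asIdeal ∈ minimalPrimes C)
    (_hmp : PrimeSpectrum.comap (algebraMap R C) m = p)
    (h : m ∈ connectedComponentIn (PrimeSpectrum.comap (algebraMap R C) ⁻¹' {p}) q) :
    m.asIdeal ≤ q.asIdeal := by
  have hq : q ∈ PrimeSpectrum.comap (algebraMap R C) ⁻¹' {p} := by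
    by_contra hq
    rw [connectedComponentIn_eq_empty hq] at h
    exact h
  let F := PrimeSpectrum.comap (algebraMap R C) ⁻¹' {p}
  let e := PrimeSpectrum.preimageHomeomorphFiber R C p
  let o := PrimeSpectrum.preimageOrderIsoFiber R C p
  have heo : ∀ z, e z = o z := fun z ↦ rfl
  rw [connectedComponentIn_eq_image hq] at h
  obtain ⟨m', hm', hmm'⟩ := h
  have hT : _root_.IsPreconnected (e '' connectedComponent (⟨q, hq⟩ : F)) :=
    isPreconnected_connectedComponent.image _ e.continuous.continuousOn
  have hmin : (o m').asIdeal ∈ minimalPrimes (p.asIdeal.Fiber C) := by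
    refine ⟨⟨(o m').2, bot_le⟩, ?_⟩
    rintro P ⟨hP, -⟩ hle
    let P' : PrimeSpectrum (p.asIdeal.Fiber C) := ⟨P, hP⟩
    have h1 : P' ≤ o m' := hle
    have h2 : o.symm P' ≤ m' := by
      rw [← o.symm_apply_apply m']
      exact o.symm.monotone h1
    have h3 : (o.symm P').1.asIdeal ≤ m.asIdeal := by
      rw [← hmm']; exact h2
    have h4 : m.asIdeal ≤ (o.symm P').1.asIdeal := hm.2 ⟨(o.symm P').1.2, bot_le⟩ h3
    have h5 : m' ≤ o.symm P' := by
      change m'.1.asIdeal ≤ _
      rw [show m'.1 = m from hmm']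
      exact h4
    have h6 : o m' ≤ P' := by
      rw [← o.apply_symm_apply P']
      exact o.monotone h5
    exact h6
  have hsm : Algebra.Smooth p.asIdeal.ResidueField (p.asIdeal.Fiber C) := inferInstance
  have h1 := FibreIrr.le_of_isPreconnected (K := p.asIdeal.ResidueField) (o m') hmin _ hT
    ⟨m', hm', rfl⟩ (e ⟨q, hq⟩) ⟨_, mem_connectedComponent, rfl⟩
  have h2 : o m' ≤ o ⟨q, hq⟩ := h1
  have h3 : m' ≤ ⟨q, hq⟩ := o.le_iff_le.mp h2
  have h4 : m'.1 ≤ q := h3
  rw [show m'.1 = m from hmm'] at h4
  exact h4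

theorem minimalPrime_le_section {R C : Type u} [CommRing R] [CommRing C] [Algebra R C]
    [Algebra.Smooth R C] (σ : C →ₐ[R] R) (p : Ideal R) [p.IsPrime] (m : Ideal C)
    (hm : m ∈ minimalPrimes C) (hmp : m ≤ p.comap σ) : m ≤ (m.under R).comap σ := by
  have hmprime : m.IsPrime := hm.1.1
  let f : Spec (CommRingCat.of C) ⟶ Spec (CommRingCat.of R) :=
    Spec.map (CommRingCat.ofHom (algebraMap R C))
  let s : Spec (CommRingCat.of R) ⟶ Spec (CommRingCat.of C) :=
    Spec.map (CommRingCat.ofHom (σ : C →+* R))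
  have hs : s ≫ f = 𝟙 _ := by
    rw [← Spec.map_comp, ← CommRingCat.ofHom_comp]
    have : (σ : C →+* R).comp (algebraMap R C) = RingHom.id R := by
      ext x; simp
    rw [this]
    exact Spec.map_id _
  have hsmooth : Smooth f := Groth.Agent.Flat2B.SmoothGeom.smooth_specMap R C
  let y : Spec (CommRingCat.of R) := (⟨p, inferInstance⟩ : PrimeSpectrum R)
  let x : Spec (CommRingCat.of C) := (⟨m, hmprime⟩ : PrimeSpectrum C)
  have hfib : Smooth (f.fiberToSpecResidueField y) :=
    MorphismProperty.pullback_snd _ _ hsmooth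
  have hgr : GeometricallyReduced (f.fiberToSpecResidueField y) :=
    Groth.Agent.Flat2B.SmoothGeom.geometricallyReduced_of_smooth _
  have h1 := Groth.Agent.S1327.result f s hs y hgr
  have hsy : f (s y) = y := by
    calc f (s y) = (s ≫ f) y := rfl
      _ = y := by rw [hs]; rfl
  have h2 : s y ∈ interior (MoreMor.sectionComponents f s) := h1 (mem_connectedComponentIn hsy)
  have hspec : x ⤳ s y := (PrimeSpectrum.le_iff_specializes _ _).mp hmp
  have h3 : x ∈ interior (MoreMor.sectionComponents f s) := hspec.mem_open isOpen_interior h2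
  have h4 : x ∈ MoreMor.sectionComponents f s := interior_subset h3
  exact le_of_connectedComponentIn (f x) x (s (f x)) hm rfl h4

end Groth.Agent.Sga3.H779.SecGen
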