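import Groth.Agent.Sga3.H779.SecGen
import Mathlib.RingTheory.Localization.BaseChange
import Mathlib.RingTheory.Localization.AtPrime.Basic

/-!
# Generic points of a smooth algebra near a section: local version
-/

set_option autoImplicit false

open TensorProduct

namespace Groth.Agent.Sga3.H779.SecGenLoc

universe u

attribute [local instance] Algebra.TensorProduct.rightAlgebra in
/-- The case of a section defined over the local ring of the base only. -/
theorem minimalPrime_le_section_local {R C : Type u} [CommRing R] [CommRing C] [Algebra R C]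
    [Algebra.Smooth R C] (p : Ideal R) [p.IsPrime] (σ : C →ₐ[R] Localization.AtPrime p) (m : Ideal C)
    (hm : m ∈ minimalPrimes C)
    (hmp : m ≤ (IsLocalRing.maximalIdeal (Localization.AtPrime p)).comap σ) :
    m ≤ ((m.under R).map (algebraMap R (Localization.AtPrime p))).comap σ := by
  have hmprime : m.IsPrime := hm.1.1
  let Rp := Localization.AtPrime p
  let Cp := Rp ⊗[R] C
  have hloc : IsLocalization (Algebra.algebraMapSubmonoid C p.primeCompl) Cp :=
    IsLocalization.tensorRight (R := R) (S := C) Rp p.primeCompl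
  have hdisj : Disjoint (Algebra.algebraMapSubmonoid C p.primeCompl : Set C) (m : Set C) := by
    rw [Set.disjoint_left]
    rintro _ ⟨a, ha, rfl⟩ ham
    have h1 : σ (algebraMap R C a) ∈ IsLocalRing.maximalIdeal (Localization.AtPrime p) := hmp ham
    rw [AlgHom.commutes] at h1
    exact (IsLocalization.AtPrime.to_map_mem_maximal_iff (Localization.AtPrime p) p a).mp h1 |> ha
  let mp : Ideal Cp := m.map (algebraMap C Cp)
  have hmpp : mp.IsPrime := IsLocalization.isPrime_of_isPrime_disjoint _ Cp m hmprime hdisj
  have hunder : mp.comap (algebraMap C Cp) = m :=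
    IsLocalization.under_map_of_isPrime_disjoint _ Cp hmprime hdisj
  have hmin : mp ∈ minimalPrimes Cp := by
    refine ⟨⟨hmpp, bot_le⟩, ?_⟩
    rintro P ⟨hP, -⟩ hle
    have h1 : P.comap (algebraMap C Cp) ≤ m := by
      rw [← hunder]; exact Ideal.comap_mono hle
    have h2 : m ≤ P.comap (algebraMap C Cp) := hm.2 ⟨inferInstance, bot_le⟩ h1
    exact Ideal.map_le_iff_le_comap.mpr h2
  let σp : Cp →ₐ[Rp] Rp := Algebra.TensorProduct.lift (AlgHom.id Rp Rp) σ (fun _ _ ↦ .all _ _)
  have hσp : ∀ c : C, σp (algebraMap C Cp c) = σ c := by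
    intro c
    change σp ((1 : Rp) ⊗ₜ[R] c) = σ c
    exact (Algebra.TensorProduct.lift_tmul _ _ _ _ _).trans (by rw [map_one, one_mul])
  have h1 : mp ≤ (IsLocalRing.maximalIdeal Rp).comap σp := by
    refine Ideal.map_le_iff_le_comap.mpr fun x hx ↦ ?_
    have h0 : σp (algebraMap C Cp x) ∈ IsLocalRing.maximalIdeal Rp := by
      rw [hσp]
      exact hmp hx
    exact h0
  have h2 := SecGen.minimalPrime_le_section σp (IsLocalRing.maximalIdeal Rp) mp hmin h1
  have h3 : mp.under Rp = (m.under R).map (algebraMap R Rp) := by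
    rw [← IsLocalization.map_under p.primeCompl Rp (mp.under Rp)]
    congr 1
    ext x
    change algebraMap Rp Cp (algebraMap R Rp x) ∈ mp ↔ algebraMap R C x ∈ m
    rw [← hunder, Ideal.mem_comap]
    have : algebraMap Rp Cp (algebraMap R Rp x) = algebraMap C Cp (algebraMap R C x) := by
      rw [← IsScalarTower.algebraMap_apply R Rp Cp, ← IsScalarTower.algebraMap_apply R C Cp]
    rw [this]
  intro x hx
  have h4 : algebraMap C Cp x ∈ mp := Ideal.mem_map_of_mem _ hx
  have h5 : σp (algebraMap C Cp x) ∈ mp.under Rp := h2 h4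
  rw [hσp, h3] at h5
  exact h5

end Groth.Agent.Sga3.H779.SecGenLoc
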